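import Cfsg.Agent.ZJFail.Quot
import Cfsg.Agent.ZJ.ControlMain
import Mathlib.GroupTheory.SpecificGroups.Cyclic

/-!
Structure of the failure of `Z(J(S))` to control strong fusion.
-/

set_option autoImplicit false
set_option linter.style.haveILetI false

namespace CfsgLib.ZJFail

open Subgroup CfsgLib.ZJ CfsgLib.Functor
open scoped CfsgLib.Functor commutatorElement

universe u

variable {p : ℕ} [Fact p.Prime]

/-- The automizer of a subgroup of order `p` has order at most `p - 1`. -/
theorem relIndex_automizer_dvd {G : Type u} [Group G] [Finite G] {H C : Subgroup G}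
    (hC : Nat.card C = p) :
    (H ⊓ centralizer (C : Set G)).relIndex (H ⊓ normalizer (C : Set G)) ∣ p - 1 := by
  haveI : IsCyclic C := isCyclic_of_prime_card hC
  let φ : ↥(H ⊓ normalizer (C : Set G)) →* MulAut C := (conjHom C).comp (Subgroup.inclusion inf_le_right)
  have hker : φ.ker = (H ⊓ centralizer (C : Set G)).subgroupOf (H ⊓ normalizer (C : Set G)) := by
    ext n
    rw [MonoidHom.mem_ker, mem_subgroupOf]
    constructor
    · intro hn
      refine ⟨n.2.1, mem_centralizer_iff.mpr fun c hc => ?_⟩
      have := congrArg (fun f : MulAut C => ((f ⟨c, hc⟩ : C) : G)) hn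
      exact (mul_inv_eq_iff_eq_mul.mp this).symm
    · intro hn
      ext c
      show (n : G) * c * (n : G)⁻¹ = c
      rw [← mem_centralizer_iff.mp hn.2 c c.2, mul_inv_cancel_right]
  rw [relIndex, ← hker, Subgroup.index_ker]
  have h := Subgroup.card_subgroup_dvd_card φ.range
  rwa [IsCyclic.card_mulAut, hC, Nat.totient_prime Fact.out] at h

/-- The conclusion passes from a subgroup containing `S` to the whole group. -/
theorem concl_of_subgroup {G : Type u} [Group G] [Finite G] (M : Subgroup G) {W : Subgroup M}
    {Z : Subgroup G} (hZ : W.map M.subtype = Z)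
    (h : Concl p (normalizer (W : Set M)) W) : Concl p (normalizer (Z : Set G)) Z := by
  obtain ⟨hinv, C, hC, hcard, hrel⟩ := h
  set H := normalizer (Z : Set G) with hH
  have hle : (normalizer (W : Set M)).map M.subtype ≤ H := by
    rw [hH, ← hZ]; exact le_normalizer_map M.subtype
  refine ⟨?_, C.map M.subtype, by rw [← hZ]; exact map_mono hC,
    by rw [card_map_of_injective M.subtype_injective, hcard], ?_⟩
  · let j : ↥(normalizer (W : Set M)) →* H :=
      (M.subtype.comp (normalizer (W : Set M)).subtype).codRestrict H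
        fun x => hle (mem_map_of_mem _ x.2)
    have hj : Function.Injective j := fun a b hab => Subtype.ext (Subtype.ext
      (congrArg (fun t : H => (t : G)) hab))
    obtain ⟨K, f, hf⟩ := exists_surjective_of_involves hinv
    exact involves_of_surjective (K.map j) (f.comp (K.equivMapOfInjective j hj).symm.toMonoidHom)
      (hf.comp (MulEquiv.surjective _))
  · have hcardC : Nat.card (C.map M.subtype) = p := by
      rw [card_map_of_injective M.subtype_injective, hcard]
    refine Nat.dvd_antisymm (relIndex_automizer_dvd hcardC) ?_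
    rw [← hrel]
    set D := C.map M.subtype
    set A := H ⊓ centralizer (D : Set G)
    set B := normalizer (W : Set M) ⊓ normalizer (C : Set M)
    have hBle : B.map M.subtype ≤ H ⊓ normalizer (D : Set G) :=
      le_inf ((map_mono inf_le_left).trans hle) ((map_mono inf_le_right).trans (le_normalizer_map _))
    have e1 : normalizer (W : Set M) ⊓ centralizer (C : Set M) = A.comap M.subtype ⊓ B := by
      ext m
      constructor
      · intro hm
        refine ⟨⟨hle (mem_map_of_mem _ hm.1), mem_centralizer_iff.mpr ?_⟩, hm.1, ?_⟩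
        · rintro _ ⟨c, hc, rfl⟩
          exact congrArg Subtype.val (mem_centralizer_iff.mp hm.2 c hc)
        · refine mem_normalizer_iff_cj.mpr (eq_of_le_of_card_le' (cj_le_iff.mpr fun c hc => ?_) (card_cj m _).ge)
          rwa [← mem_centralizer_iff.mp hm.2 c hc, mul_inv_cancel_right]
      · intro hm
        exact ⟨hm.2.1, mem_centralizer_iff.mpr fun c hc =>
          Subtype.ext (mem_centralizer_iff.mp hm.1.2 c (mem_map_of_mem _ hc))⟩
    rw [e1, inf_relIndex_right, relIndex_comap]
    haveI : (A.subgroupOf (H ⊓ normalizer (D : Set G))).Normal := normal_subgroupOf_of_le_normalizer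
      (le_trans (le_inf (inf_le_left.trans le_normalizer) (centralizer_normalized inf_le_right))
        normalizer_inf_le)
    rw [← relIndex_subgroupOf (H := A) hBle]
    exact relIndex_dvd_index_of_normal _ _

variable {G : Type u} [Group G] [Finite G]

/-- Either the structure occurs or strong fusion is controlled. -/
theorem concl_or_fused (hp : p ≠ 2) (G : Type u) [Group G] [Finite G] (S : Sylow p G) :
    Concl p (normalizer ((Cfsg.centerThompsonAOf (S : Subgroup G) : Subgroup G) : Set G))
        (Cfsg.centerThompsonAOf (S : Subgroup G)) ∨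
      ∀ (A : Subgroup G) (g : G), A ≤ S → g ⋆ A ≤ S →
        Fused (normalizer ((Cfsg.centerThompsonAOf (S : Subgroup G) : Subgroup G) : Set G)) A g := by
  obtain ⟨n, hn⟩ : ∃ n, Nat.card G = n := ⟨_, rfl⟩
  induction n using Nat.strong_induction_on generalizing G with
  | _ n ih =>
    subst hn
    refine or_iff_not_imp_left.mpr fun hnot => ?_
    have KA := zkind_centerThompsonA.{u} hp
    set Z := Cfsg.centerThompsonAOf (S : Subgroup G) with hZdef
    set H := normalizer (Z : Set G) with hH
    have hZS : Z ≤ (S : Subgroup G) := KA.le G _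
    have hZc := KA.comm G (S : Subgroup G)
    have hNS : normalizer ((S : Subgroup G) : Set G) ≤ H := KA.normalizer_le (S : Subgroup G)
    have hSH : (S : Subgroup G) ≤ H := le_normalizer.trans hNS
    -- control in proper subgroups containing `S`
    have hsub : ∀ M : Subgroup G, M ≠ ⊤ → (S : Subgroup G) ≤ M → ∀ (A : Subgroup G) (g : G), g ∈ M →
        A ≤ S → g ⋆ A ≤ S → Fused H A g := by
      intro M hM hSM A g hgM hA hgA
      let SM : Sylow p M := S.subtype hSM
      have hSMe : (SM : Subgroup M).map M.subtype = (S : Subgroup G) := map_subgroupOf_eq_of_le hSM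
      have hZM : (Cfsg.centerThompsonAOf (SM : Subgroup M)).map M.subtype = Z := by
        rw [← KA.map M G M.subtype _ M.subtype_injective, hSMe]
      rcases ih _ (Solvable.card_lt_of_ne_top hM) M SM rfl with hc | hf
      · exact absurd (concl_of_subgroup M hZM hc) hnot
      obtain ⟨x, hx, hxe⟩ := hf (A.subgroupOf M) ⟨g, hgM⟩ (fun a ha => mem_subgroupOf.mpr (hA (mem_subgroupOf.mp ha)))
        (by
          rintro _ ⟨a, ha, rfl⟩
          refine mem_subgroupOf.mpr ?_
          simpa using cj_le_iff.mp hgA _ (mem_subgroupOf.mp ha))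
      refine ⟨x, ?_, fun a ha => ?_⟩
      · have h2 := le_normalizer_map M.subtype (mem_map_of_mem M.subtype hx)
        rwa [hZM] at h2
      · exact congrArg Subtype.val (hxe ⟨a, hSM (hA ha)⟩ (mem_subgroupOf.mpr ha))
    set P0 := Cfsg.pCore p G with hP0
    haveI hP0n : P0.Normal := Solvable.pCore_normal p
    have hP0S : P0 ≤ (S : Subgroup G) := pCore_le_sylow S
    have htriv : Z.Normal → ∀ (A : Subgroup G) (g : G), A ≤ S → g ⋆ A ≤ S → Fused H A g := by
      intro hn A g _ _
      refine Fused.of_mem ?_
      rw [hH, normalizer_eq_top (H := Z)]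
      exact mem_top g
    set C := centralizer (P0 : Set G) with hC
    set T := (S : Subgroup G) ⊓ coreKer p G with hTdef
    by_cases hTn : normalizer (T : Set G) = ⊤
    · -- the kernel meets `S` in the p-core
      have hTP : T ≤ P0 := Solvable.le_pCore p (normalizer_eq_top_iff.mp hTn) (S.2.to_le inf_le_left)
      have hall : ∀ L : Subgroup G, L ≤ normalizer (P0 : Set G) := fun L => by
        rw [normalizer_eq_top (H := P0)]; exact le_top
      by_cases hU : (⊤ : Subgroup G) ≤ normalizer ((Z ⊓ P0 : Subgroup G) : Set G)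
      · refine htriv ?_
        have hUn : (Z ⊓ P0).Normal := normalizer_eq_top_iff.mp (top_le_iff.mp hU)
        suffices hle : Z ≤ P0 by rwa [inf_eq_left.mpr hle] at hUn
        intro z hz
        refine hTP ⟨hZS hz, mem_of_stabilizes (M := ⊤) (hall ⊤) hU (S.2.to_le (inf_le_left.trans hZS))
          (K := coreKer p G) (fun N _ hN hp => fun x hx => mem_coreKer.mpr
            ⟨N, normalizer_eq_top_iff.mp (top_le_iff.mp hN), hx, hp⟩) (mem_top z)
          (mem_centralizer_iff.mpr fun v hv => hZc v hv.1 z hz) fun v hv => ⟨?_, ?_⟩⟩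
        · rw [commutatorElement_def, show z * v * z⁻¹ * v⁻¹ = z * (v * z⁻¹ * v⁻¹) by group]
          exact Z.mul_mem hz ((mem_normalizer_iff.mp (hSH (hP0S hv)) _).mp (Z.inv_mem hz))
        · rw [commutatorElement_def]
          exact P0.mul_mem (hP0n.conj_mem v hv z) (P0.inv_mem hv)
      by_cases hJ : Jmod ⊥ (S : Subgroup G) ≤ P0
      · refine htriv ?_
        have he := fam_eq_of_le (E := (⊥ : Subgroup G)) bot_le hP0S hJ
        have hW : Wmod ⊥ P0 = Z := by
          rw [hZdef, ← Wmod_bot, Wmod, Wmod, he]
        rw [← hW]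
        refine normalizer_eq_top_iff.mp (top_le_iff.mp ?_)
        exact (hall ⊤).trans normalizer_le_Wmod
      refine absurd (concl_bot hp (S := (S : Subgroup G)) (M := ⊤) (T := (S : Subgroup G)) (P := P0)
        S.2 hSH hSH hZc (isSylowIn_top S) le_rfl hP0S (Wmod_bot _).symm (hall ⊤) hU ?_ ?_ hJ) hnot
      · intro L hSL _ hne
        have hfu : ∀ l ∈ L, Fused H P0 l := fun l hl => hsub L hne hSL P0 l hl hP0S (by
          rw [mem_normalizer_iff_cj.mp (hall L hl)]; exact hP0S)
        exact ⟨fun l hl => mem_normalizer_inf_of_fused (hall L hl) (hfu l hl), hfu⟩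
      · exact fun N _ hN hNp => Solvable.le_pCore p (normalizer_eq_top_iff.mp (top_le_iff.mp hN)) hNp
    have hST : (S : Subgroup G) ≤ normalizer (T : Set G) := by
      intro s hs
      exact normalizer_inf_le ⟨le_normalizer hs,
        (by rw [normalizer_eq_top (H := coreKer p G)]; exact mem_top s)⟩
    by_cases hCS : C ⊔ (S : Subgroup G) = ⊤
    swap
    · -- both factors lie in proper subgroups
      intro A g hA hg
      obtain ⟨c, hc, e, he, rfl⟩ := exists_centralizer_mul_normalizer S g
      set M := normalizer (T : Set G) ⊓ (C ⊔ (S : Subgroup G)) with hM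
      have hSM : IsSylowIn p (S : Subgroup G) M :=
        (isSylowIn_top S).of_le (le_inf hST le_sup_right) le_top
      have hb : e ⋆ A ≤ M := by
        rw [cj_le_iff]
        intro a ha
        refine ⟨Subgroup.mul_mem _ (Subgroup.mul_mem _ he (hST (hA ha))) (Subgroup.inv_mem _ he), ?_⟩
        have h1 : c * (e * a * e⁻¹) * c⁻¹ ∈ (S : Subgroup G) := by
          have := cj_le_iff.mp hg a ha
          simpa [mul_assoc] using this
        rw [show e * a * e⁻¹ = c⁻¹ * (c * (e * a * e⁻¹) * c⁻¹) * c by group]
        exact mul_mem (mul_mem (mem_sup_left (C.inv_mem hc)) (mem_sup_right h1)) (mem_sup_left hc)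
      obtain ⟨k, hk, hkle⟩ := hSM.exists_cj_le (isPGroup_cj e (S.2.to_le hA)) hb
      rw [cj_cj] at hkle
      have h1 : Fused H A (k * e) := hsub _ hTn hST A _ (mul_mem hk.1 he) hA hkle
      have hck : c * k⁻¹ ∈ C ⊔ (S : Subgroup G) := mul_mem (mem_sup_left hc) (inv_mem hk.2)
      have h2 : Fused H ((k * e) ⋆ A) (c * k⁻¹) := hsub _ hCS le_sup_right _ _ hck hkle (by
        rw [cj_cj, show c * k⁻¹ * (k * e) = c * e by group]
        exact hg)
      have := h1.comp h2
      rwa [show c * k⁻¹ * (k * e) = c * e by group] at this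
    -- `G = C S`
    have hE0 : (Z ⊓ P0).Normal := by
      rw [← normalizer_eq_top_iff, eq_top_iff, ← hCS]
      refine sup_le (fun c hc => mem_normalizer_iff_cj.mpr
        (eq_of_le_of_card_le' (cj_le_iff.mpr fun a ha => ?_) (card_cj c _).ge)) ?_
      · rwa [← mem_centralizer_iff.mp hc a ha.2, mul_inv_cancel_right]
      · exact (le_inf hSH (by rw [normalizer_eq_top (H := P0)]; exact le_top)).trans normalizer_inf_le
    by_cases hZP : Z ≤ P0
    · exact htriv (by rwa [inf_eq_left.mpr hZP] at hE0)
    have St : Setting S Z P0 :=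
      { hE := hP0n, hEp := Solvable.isPGroup_pCore p, hES := hP0S, hZS := hZS, hSH := hSH, hNS := hNS,
        hZc := hZc, hcoreE := fun N h1 h2 => Solvable.le_pCore p h1 h2, hE0 := hE0, hZE := hZP,
        hsub := hsub }
    exact St.fused hp hnot

/-- The statement. -/
theorem failure_structure (hp : p ≠ 2) (S : Sylow p G)
    (h : ¬ Cfsg.ControlsStrongFusion p (Cfsg.centerThompsonAOf (S : Subgroup G))) :
    Concl p (normalizer ((Cfsg.centerThompsonAOf (S : Subgroup G) : Subgroup G) : Set G))
      (Cfsg.centerThompsonAOf (S : Subgroup G)) :=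
  (concl_or_fused hp G S).resolve_right fun hf =>
    h ⟨S, (zkind_centerThompsonA.{u} hp).le G _, controlsStrongFusionOf_of_fused hf⟩

end CfsgLib.ZJFail
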