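import Cfsg.Agent.ZJ.Alperin
import Mathlib.Data.ZMod.Basic
import Mathlib.RingTheory.IntegralDomain

/-!
An eigenvector in a section of an abelian p-subgroup gives a subgroup of order `p` with full
automizer.
-/

set_option autoImplicit false

namespace CfsgLib.ZJFail

open Subgroup CfsgLib.ZJ CfsgLib.Functor

variable {G : Type*} [Group G] [Finite G] {p : ℕ} [Fact p.Prime]

theorem exists_full_automizer {H W1 W0 : Subgroup G} (hW : IsPGroup p W1)
    (hWc : ∀ u ∈ W1, ∀ v ∈ W1, u * v = v * u) (hle : W0 ≤ W1) {h : G} (hh : h ∈ H)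
    (h1 : h ∈ normalizer (W1 : Set G)) (h0 : h ∈ normalizer (W0 : Set G)) {y : G} (hy : y ∈ W1)
    (hy0 : y ∉ W0) (α : (ZMod p)ˣ) (hα : ∀ u, u ∈ zpowers α)
    (he : h * y * h⁻¹ * (y ^ (α : ZMod p).val)⁻¹ ∈ W0) :
    ∃ C : Subgroup G, C ≤ W1 ∧ Nat.card C = p ∧
      (H ⊓ centralizer (C : Set G)).relIndex (H ⊓ normalizer (C : Set G)) = p - 1 := by
  set a := (α : ZMod p).val with ha
  let η : W1 →* W1 :=
    MonoidHom.mk' (fun u => ⟨h * u * h⁻¹ * ((u : G) ^ a)⁻¹,
      mul_mem ((mem_normalizer_iff.mp h1 u).mp u.2) (inv_mem (pow_mem u.2 a))⟩) (by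
      intro u v
      apply Subtype.ext
      simp only [Subgroup.coe_mul]
      have hc : Commute (u : G) v := hWc u u.2 v v.2
      rw [hc.mul_pow, mul_inv_rev]
      have h2 : Commute ((u : G) ^ a)⁻¹ (h * v * h⁻¹ * ((v : G) ^ a)⁻¹) :=
        hWc _ (inv_mem (pow_mem u.2 a)) _
          (mul_mem ((mem_normalizer_iff.mp h1 v).mp v.2) (inv_mem (pow_mem v.2 a)))
      rw [mul_assoc (h * u * h⁻¹), h2.eq]
      group)
  -- `η` is not injective
  have hker : η.ker ≠ ⊥ := by
    intro hb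
    have hinj : Function.Injective η := (MonoidHom.ker_eq_bot_iff η).mp hb
    let η0 : W0 → W0 := fun u => ⟨η ⟨u, hle u.2⟩,
      mul_mem ((mem_normalizer_iff.mp h0 u).mp u.2) (inv_mem (pow_mem u.2 a))⟩
    have h0inj : Function.Injective η0 := by
      intro u v huv
      have h3 : η ⟨u, hle u.2⟩ = η ⟨v, hle v.2⟩ :=
        Subtype.ext (congrArg (fun w : W0 => (w : G)) huv)
      exact Subtype.ext (congrArg (fun w : W1 => (w : G)) (hinj h3))
    obtain ⟨u, hu⟩ := Finite.injective_iff_surjective.mp h0inj ⟨_, he⟩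
    have : (⟨u, hle u.2⟩ : W1) = ⟨y, hy⟩ := hinj (Subtype.ext (congrArg (fun w : W0 => (w : G)) hu))
    have h4 : (u : G) = y := congrArg (fun w : W1 => (w : G)) this
    exact hy0 (h4 ▸ u.2)
  obtain ⟨k, hk⟩ := (hW.to_subgroup η.ker).exists_card_eq
  have hk0 : k ≠ 0 := fun h0 => hker (eq_bot_of_card_eq _ (by rw [hk, h0, pow_zero]))
  obtain ⟨c, hc⟩ := exists_prime_orderOf_dvd_card' (G := η.ker) p (hk ▸ dvd_pow_self p hk0)
  set c0 : G := ((c : W1) : G) with hc0
  have hord : orderOf c0 = p := by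
    rw [hc0, orderOf_coe, orderOf_coe, hc]
  have hhc : h * c0 * h⁻¹ = c0 ^ a := by
    have := congrArg Subtype.val (MonoidHom.mem_ker.mp c.2)
    exact mul_inv_eq_one.mp this
  refine ⟨zpowers c0, zpowers_le.mpr (c : W1).2, by rw [Nat.card_zpowers, hord], ?_⟩
  set N := H ⊓ normalizer (zpowers c0 : Set G) with hN
  -- the action on the cyclic group
  have hex : ∀ n : N, ∃ j : ZMod p, (n : G) * c0 * (n : G)⁻¹ = c0 ^ j.val := by
    intro n
    obtain ⟨i, hi⟩ := mem_zpowers_iff.mp ((mem_normalizer_iff.mp n.2.2 c0).mp (mem_zpowers c0))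
    refine ⟨(i : ZMod p), ?_⟩
    rw [← hi, ← zpow_natCast, zpow_eq_zpow_iff_modEq, hord, ← ZMod.intCast_eq_intCast_iff,
      Int.cast_natCast, ZMod.natCast_zmod_val]
  choose f hf using hex
  have huniq : ∀ i j : ZMod p, c0 ^ i.val = c0 ^ j.val → i = j := by
    intro i j hij
    rw [pow_eq_pow_iff_modEq, hord, ← ZMod.natCast_eq_natCast_iff] at hij
    simpa using hij
  have hpow : ∀ i j : ℕ, (i : ZMod p) = j → c0 ^ i = c0 ^ j := by
    intro i j hij
    rwa [pow_eq_pow_iff_modEq, hord, ← ZMod.natCast_eq_natCast_iff]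
  let f1 : N →* ZMod p :=
    { toFun := f
      map_one' := huniq _ _ (by rw [← hf 1, ZMod.val_one]; simp)
      map_mul' := fun m n => huniq _ _ (by
        rw [← hf]
        calc ((m * n : N) : G) * c0 * ((m * n : N) : G)⁻¹
            = (m : G) * ((n : G) * c0 * (n : G)⁻¹) * (m : G)⁻¹ := by
              simp only [Subgroup.coe_mul]; group
          _ = ((m : G) * c0 * (m : G)⁻¹) ^ (f n).val := by rw [hf n, conj_pow]
          _ = _ := by rw [hf m, ← pow_mul]; exact hpow _ _ (by simp)) }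
  let F := f1.toHomUnits
  have hhN : h ∈ N := by
    refine ⟨hh, mem_normalizer_iff_cj.mpr (eq_of_le_of_card_le' ?_ (card_cj h _).ge)⟩
    rw [MonoidHom.map_zpowers, zpowers_le]
    show h * c0 * h⁻¹ ∈ _
    rw [hhc]
    exact pow_mem (mem_zpowers _) _
  have hFh : F ⟨h, hhN⟩ = α := Units.ext (huniq _ _ (by rw [← hhc]; exact (hf ⟨h, hhN⟩).symm))
  have hker' : F.ker = (H ⊓ centralizer (zpowers c0 : Set G)).subgroupOf N := by
    ext n
    rw [MonoidHom.mem_ker, mem_subgroupOf, Units.ext_iff]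
    show f n = 1 ↔ _
    constructor
    · intro hn
      refine ⟨n.2.1, mem_centralizer_iff.mpr ?_⟩
      rintro _ ⟨i, rfl⟩
      have h3 := hf n
      rw [hn, ZMod.val_one, pow_one, mul_inv_eq_iff_eq_mul] at h3
      exact ((show Commute (n : G) c0 from h3).zpow_right i).symm.eq
    · intro hn
      refine huniq _ _ ?_
      rw [← hf n, ZMod.val_one, pow_one, mul_inv_eq_iff_eq_mul]
      exact (mem_centralizer_iff.mp hn.2 c0 (mem_zpowers c0)).symm
  rw [relIndex, ← hker', Subgroup.index_ker]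
  have htop : F.range = ⊤ := eq_top_iff.mpr fun u _ =>
    (zpowers_le.mpr (⟨⟨h, hhN⟩, hFh⟩ : α ∈ F.range)) (hα u)
  rw [htop, Subgroup.card_top, Nat.card_eq_fintype_card, ZMod.card_units]

end CfsgLib.ZJFail
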