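import Cfsg.Agent.ZJFail.Linear
import Cfsg.Agent.ZJ.Involve
import Cfsg.Agent.ZJ.Alperin
import Cfsg.Prelude.Def_LocalEven

/-!
A plane with a transvection and a torus, realised by elements of `H`, gives the group F(p) as a
section of `H`.
-/

set_option autoImplicit false
set_option linter.style.haveILetI false

namespace CfsgLib.ZJFail

open Subgroup CfsgLib.ZJ CfsgLib.Functor
open scoped commutatorElement

variable {G : Type*} [Group G] [Finite G] {p : ℕ} [Fact p.Prime]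

/-- The plane coordinates acted on by a matrix. -/
def matAct (A : SL2 (ZMod p)) (v : ZMod p × ZMod p) : ZMod p × ZMod p :=
  (A 0 0 * v.1 + A 0 1 * v.2, A 1 0 * v.1 + A 1 1 * v.2)

theorem matAct_one (v : ZMod p × ZMod p) : matAct 1 v = v := by simp [matAct]

theorem matAct_mul (A B : SL2 (ZMod p)) (v : ZMod p × ZMod p) :
    matAct (A * B) v = matAct A (matAct B v) := by
  simp only [matAct, sl2_mul]
  exact Prod.ext (by ring) (by ring)

/-- Every triangular matrix is a product of a transvection and a power of a torus generator. -/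
theorem borel_gen (α : (ZMod p)ˣ) (hα : ∀ u, u ∈ zpowers α) (K : Subgroup (SL2 (ZMod p)))
    (hu : upper 1 ∈ K) (hd : diag2 (α : ZMod p) α.ne_zero ∈ K) (M : SL2 (ZMod p))
    (hM : M 1 0 = 0) : M ∈ K := by
  have hd' := sl2_det M
  rw [hM, mul_zero, sub_zero] at hd'
  have h00 : M 0 0 ≠ 0 := fun h => by rw [h, zero_mul] at hd'; exact zero_ne_one hd'
  obtain ⟨i, hi⟩ := (mem_powers_iff_mem_zpowers (x := α)).mpr (hα (Units.mk0 _ h00))
  have hi' : (α : ZMod p) ^ i = M 0 0 :=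
    (Units.val_pow_eq_pow_val α i).symm.trans (congrArg Units.val hi)
  have hpow : ∀ n : ℕ, (diag2 (α : ZMod p) α.ne_zero) ^ n = diag2 ((α : ZMod p) ^ n)
      (pow_ne_zero _ α.ne_zero) := by
    intro n
    induction n with
    | zero => apply sl2_ext <;> simp
    | succ n ih =>
      rw [pow_succ, ih]
      apply sl2_ext <;> simp only [sl2_mul, diag2_00, diag2_01, diag2_10, diag2_11, mul_zero, zero_mul,
        add_zero, zero_add, pow_succ, mul_inv]
  have hM' : M = upper (M 0 1 * M 0 0) * (diag2 (α : ZMod p) α.ne_zero) ^ i := by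
    rw [hpow]
    apply sl2_ext <;> simp only [sl2_mul, upper_00, upper_01, upper_10, upper_11, diag2_00, diag2_01,
      diag2_10, diag2_11, hi', hM, mul_zero, zero_mul, one_mul, add_zero, zero_add]
    · rw [mul_assoc, mul_inv_cancel₀ h00, mul_one]
    · exact eq_inv_of_mul_eq_one_left (by rw [mul_comm]; exact hd')
  rw [hM']
  refine mul_mem ?_ (pow_mem hd i)
  have := pow_mem hu (M 0 1 * M 0 0).val
  rwa [upper_pow, mul_one, ZMod.natCast_zmod_val] at this

theorem involves_fOver (hp : p ≠ 2) {H W X' : Subgroup G} (hW : IsPGroup p W) (hWH : W ≤ H)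
    (hX : X' ≤ W) (hcomm : ∀ u ∈ W, ∀ v ∈ W, ⁅u, v⁆ ∈ X') (hexp : ∀ u ∈ W, u ^ p ∈ X')
    {y w x h : G} (hy : y ∈ W) (hw : w ∈ W)
    (hind : ∀ s t : ℕ, y ^ s * w ^ t ∈ X' → p ∣ s ∧ p ∣ t)
    (hx : x ∈ H) (hxW : x ∈ normalizer (W : Set G)) (hxX : x ∈ normalizer (X' : Set G))
    (hh : h ∈ H) (hhW : h ∈ normalizer (W : Set G)) (hhX : h ∈ normalizer (X' : Set G))
    (α : (ZMod p)ˣ) (hα : ∀ u, u ∈ zpowers α)
    (hxy : x * y * x⁻¹ * y⁻¹ ∈ X') (hxw : x * w * x⁻¹ * (w * y)⁻¹ ∈ X')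
    (hhy : h * y * h⁻¹ * (y ^ (α : ZMod p).val)⁻¹ ∈ X')
    (hhw : h * w * h⁻¹ * (w ^ ((α⁻¹ : (ZMod p)ˣ) : ZMod p).val)⁻¹ ∈ X') :
    Cfsg.Involves ↥(Cfsg.fOver (ZMod p)) ↥H := by
  classical
  have hp' := (Fact.out : p.Prime)
  set N := X'.subgroupOf W with hN
  haveI : N.Normal := by
    refine ⟨fun n hn g => mem_subgroupOf.mpr ?_⟩
    have := mul_mem (hcomm g g.2 n n.2) (mem_subgroupOf.mp hn)
    simpa [commutatorElement_def, mul_assoc] using this
  let q := QuotientGroup.mk' N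
  have hqc : ∀ a b : W ⧸ N, Commute a b := by
    intro a b
    obtain ⟨u, rfl⟩ := QuotientGroup.mk'_surjective N a
    obtain ⟨v, rfl⟩ := QuotientGroup.mk'_surjective N b
    show _ * _ = _ * _
    rw [← commutatorElement_eq_one_iff_mul_comm, ← map_commutatorElement]
    exact (QuotientGroup.eq_one_iff _).mpr (mem_subgroupOf.mpr (hcomm u u.2 v v.2))
  have hqp : ∀ a : W ⧸ N, a ^ p = 1 := by
    intro a
    obtain ⟨u, rfl⟩ := QuotientGroup.mk'_surjective N a
    rw [← map_pow]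
    exact (QuotientGroup.eq_one_iff _).mpr (mem_subgroupOf.mpr (hexp u u.2))
  have hqv : ∀ (a : W ⧸ N) (n : ℕ), a ^ n = a ^ (n : ZMod p).val := fun a n => by
    rw [ZMod.val_natCast, ← pow_eq_pow_mod n (hqp a)]
  have hqe : ∀ (u v : G) (hu : u ∈ W) (hv : v ∈ W), u * v⁻¹ ∈ X' → q ⟨u, hu⟩ = q ⟨v, hv⟩ := by
    intro u v hu hv huv
    rw [← mul_inv_eq_one, ← map_inv, ← map_mul]
    exact (QuotientGroup.eq_one_iff _).mpr (mem_subgroupOf.mpr huv)
  set Y := q ⟨y, hy⟩ with hY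
  set V := q ⟨w, hw⟩ with hV
  let z : Multiplicative (ZMod p × ZMod p) →* W ⧸ N :=
    MonoidHom.mk' (fun v => Y ^ (Multiplicative.toAdd v).1.val * V ^ (Multiplicative.toAdd v).2.val)
      (fun u v => by
        rw [(hqc _ _).mul_mul_mul_comm, ← pow_add, ← pow_add, hqv Y (_ + _), hqv V (_ + _), Nat.cast_add,
          Nat.cast_add, ZMod.natCast_zmod_val, ZMod.natCast_zmod_val, ZMod.natCast_zmod_val,
          ZMod.natCast_zmod_val]
        rfl)
  have hz : ∀ s t : ZMod p, z (Multiplicative.ofAdd (s, t)) = Y ^ s.val * V ^ t.val := fun _ _ => rfl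
  have hzinj : Function.Injective z := by
    rw [injective_iff_map_eq_one]
    intro v hv
    obtain ⟨⟨s, t⟩, rfl⟩ := Multiplicative.ofAdd.surjective v
    rw [hz, hY, hV, ← map_pow, ← map_pow, ← map_mul] at hv
    obtain ⟨h1, h2⟩ := hind s.val t.val (mem_subgroupOf.mp ((QuotientGroup.eq_one_iff _).mp hv))
    rw [← ZMod.natCast_eq_zero_iff, ZMod.natCast_zmod_val] at h1 h2
    rw [h1, h2]
    rfl
  -- the elements acting triangularly
  let Nn : Subgroup G := H ⊓ normalizer (W : Set G) ⊓ normalizer (X' : Set G)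
  let cw : Nn → W →* W := fun n => MonoidHom.mk'
    (fun u => ⟨(n : G) * u * (n : G)⁻¹, (mem_normalizer_iff.mp n.2.1.2 u).mp u.2⟩)
    (fun u v => Subtype.ext (by simp [mul_assoc]))
  let cq : Nn → (W ⧸ N) →* (W ⧸ N) := fun n => QuotientGroup.map N N (cw n)
    (fun u hu => mem_subgroupOf.mpr ((mem_normalizer_iff.mp n.2.2 u).mp (mem_subgroupOf.mp hu)))
  have hcq : ∀ n u, cq n (q u) = q (cw n u) := fun _ _ => rfl
  let Act : Nn → SL2 (ZMod p) → Prop := fun n A => ∀ v : ZMod p × ZMod p,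
    cq n (z (Multiplicative.ofAdd v)) = z (Multiplicative.ofAdd (matAct A v))
  have hbasis : ∀ n A, cq n Y = z (Multiplicative.ofAdd (A 0 0, A 1 0)) →
      cq n V = z (Multiplicative.ofAdd (A 0 1, A 1 1)) → Act n A := by
    rintro n A h1 h2 ⟨s, t⟩
    rw [hz, map_mul, map_pow, map_pow, h1, h2, ← map_pow z, ← map_pow z, ← map_mul z, ← ofAdd_nsmul,
      ← ofAdd_nsmul, ← ofAdd_add]
    refine congrArg (fun v => z (Multiplicative.ofAdd v)) (Prod.ext ?_ ?_) <;>
      simp [matAct, mul_comm]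
  have hact1 : ∀ n : Nn, (n : G) = 1 → Act n 1 := by
    intro n hn v
    rw [matAct_one]
    obtain ⟨u, hu⟩ := QuotientGroup.mk'_surjective N (z (Multiplicative.ofAdd v))
    rw [← hu, hcq]
    congr 1
    exact Subtype.ext (show (n : G) * u * (n : G)⁻¹ = u by rw [hn]; simp)
  have hcmp : ∀ m n a, cq (m * n) a = cq m (cq n a) := by
    intro m n a
    obtain ⟨u, rfl⟩ := QuotientGroup.mk'_surjective N a
    rw [hcq, hcq, hcq]
    congr 1
    exact Subtype.ext (show ((m * n : Nn) : G) * u * ((m * n : Nn) : G)⁻¹ =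
      (m : G) * ((n : G) * u * (n : G)⁻¹) * (m : G)⁻¹ by simp only [Subgroup.coe_mul]; group)
  have huniq : ∀ n A B, Act n A → Act n B → A = B := by
    intro n A B hA hB
    have e1 := Multiplicative.ofAdd.injective (hzinj ((hA (1, 0)).symm.trans (hB (1, 0))))
    have e2 := Multiplicative.ofAdd.injective (hzinj ((hA (0, 1)).symm.trans (hB (0, 1))))
    simp [matAct] at e1 e2
    exact sl2_ext e1.1 e2.1 e1.2 e2.2
  let KB : Subgroup Nn :=
    { carrier := {n | ∃ A, A 1 0 = 0 ∧ Act n A}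
      one_mem' := ⟨1, by simp, hact1 1 rfl⟩
      mul_mem' := by
        rintro m n ⟨A, hA0, hA⟩ ⟨B, hB0, hB⟩
        exact ⟨A * B, by rw [sl2_mul, hA0, hB0]; ring, fun v => by rw [hcmp, hB, hA, matAct_mul]⟩
      inv_mem' := by
        rintro n ⟨A, hA0, hA⟩
        refine ⟨A⁻¹, by rw [(sl2_inv A).2.2.1, hA0, neg_zero], fun v => ?_⟩
        have h2 := congrArg (cq n⁻¹) (hA (matAct A⁻¹ v))
        rw [← matAct_mul, mul_inv_cancel, matAct_one, ← hcmp, inv_mul_cancel,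
          hact1 1 rfl, matAct_one] at h2
        exact h2.symm }
  choose φ hφ0 hφ using fun n : KB => (n.2 : ∃ A, A 1 0 = 0 ∧ Act n A)
  let φh : KB →* SL2 (ZMod p) := MonoidHom.mk' φ
    (fun m n => huniq _ _ _ (hφ (m * n)) (fun v => by
      rw [show ((m * n : KB) : Nn) = (m : Nn) * n from rfl, hcmp, hφ n, hφ m, matAct_mul]))
  -- generators
  have hxN : x ∈ Nn := ⟨⟨hx, hxW⟩, hxX⟩
  have hhN : h ∈ Nn := ⟨⟨hh, hhW⟩, hhX⟩
  have hz1 : ∀ (s t : ℕ), z (Multiplicative.ofAdd ((s : ZMod p), (t : ZMod p))) = Y ^ s * V ^ t := by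
    intro s t
    rw [hz, ← hqv, ← hqv]
  have hyW' : ∀ n : Nn, (n : G) * y * (n : G)⁻¹ ∈ W := fun n => (mem_normalizer_iff.mp n.2.1.2 y).mp hy
  have hwW' : ∀ n : Nn, (n : G) * w * (n : G)⁻¹ ∈ W := fun n => (mem_normalizer_iff.mp n.2.1.2 w).mp hw
  have hxA : Act ⟨x, hxN⟩ (upper 1) := by
    refine hbasis _ _ ?_ ?_
    · refine (hcq _ _).trans ((hqe _ y (hyW' ⟨x, hxN⟩) hy hxy).trans ?_)
      have := hz1 1 0
      simp only [pow_one, pow_zero, mul_one, Nat.cast_one, Nat.cast_zero] at this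
      exact this.symm
    · refine (hcq _ _).trans ((hqe _ (w * y) (hwW' ⟨x, hxN⟩) (mul_mem hw hy) hxw).trans ?_)
      have := hz1 1 1
      simp only [pow_one, Nat.cast_one] at this
      refine ((map_mul q ⟨w, hw⟩ ⟨y, hy⟩).trans (hqc V Y).eq).trans ?_
      exact this.symm
  have hhA : Act ⟨h, hhN⟩ (diag2 (α : ZMod p) α.ne_zero) := by
    refine hbasis _ _ ?_ ?_
    · refine (hcq _ _).trans ((hqe _ (y ^ (α : ZMod p).val) (hyW' ⟨h, hhN⟩) (pow_mem hy _) hhy).trans ?_)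
      refine (map_pow q ⟨y, hy⟩ _).trans ?_
      simp [hz, ← hY]
    · refine (hcq _ _).trans ((hqe _ (w ^ ((α⁻¹ : (ZMod p)ˣ) : ZMod p).val) (hwW' ⟨h, hhN⟩)
        (pow_mem hw _) hhw).trans ?_)
      refine (map_pow q ⟨w, hw⟩ _).trans ?_
      rw [hz, diag2_01, diag2_11, ZMod.val_zero, pow_zero, one_mul, ← hV, Units.val_inv_eq_inv_val]
  have hsurj : ∀ M : SL2 (ZMod p), M 1 0 = 0 → ∃ n : KB, φh n = M := by
    intro M hM
    refine borel_gen α hα φh.range ?_ ?_ M hM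
    · exact ⟨⟨⟨x, hxN⟩, upper 1, by simp, hxA⟩, huniq _ _ _ (hφ _) hxA⟩
    · exact ⟨⟨⟨h, hhN⟩, _, diag2_10 _ _, hhA⟩, huniq _ _ _ (hφ _) hhA⟩
  -- a 2-element acting as `-1` and its Sylow normalizer
  obtain ⟨u₀, hu₀⟩ := hsurj (-1) (by simp)
  set U : Subgroup KB := (zpowers (-1 : SL2 (ZMod p))).comap φh with hU
  have hUn : U.Normal := by
    have : (zpowers (-1 : SL2 (ZMod p))).Normal := ⟨fun m hm g => by
      obtain ⟨k, rfl⟩ := hm
      have hc : Commute g ((-1 : SL2 (ZMod p)) ^ k) := (Commute.neg_one_right g).zpow_right k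
      rw [hc.eq, mul_inv_cancel_right]
      exact ⟨k, rfl⟩⟩
    exact this.comap φh
  obtain ⟨e, m, hm, hem⟩ := Nat.exists_eq_two_pow_mul_odd (orderOf_pos u₀).ne'
  set u := u₀ ^ m with hu
  have hφu : φh u = -1 := by rw [hu, map_pow, hu₀, hm.neg_one_pow]
  have huU : u ∈ U := by rw [hU, mem_comap, hφu]; exact mem_zpowers _
  have hPu : IsPGroup 2 (zpowers (⟨u, huU⟩ : U)) := by
    intro c
    obtain ⟨c, k, rfl⟩ := c
    refine ⟨e, Subtype.ext (Subtype.ext ?_)⟩
    show (u ^ k) ^ 2 ^ e = 1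
    rw [← zpow_natCast, zpow_comm, zpow_natCast, hu, ← pow_mul, mul_comm, ← hem, pow_orderOf_eq_one,
      one_zpow]
  obtain ⟨P2, hP2⟩ := hPu.exists_le_sylow
  set T2 : Subgroup KB := (P2 : Subgroup U).map U.subtype with hT2
  have huT : u ∈ T2 := ⟨_, hP2 (mem_zpowers _), rfl⟩
  set D0 := normalizer (T2 : Set KB) with hD0
  have hD0surj : ∀ M : SL2 (ZMod p), M 1 0 = 0 → ∃ d ∈ D0, φh d = M := by
    intro M hM
    obtain ⟨g, rfl⟩ := hsurj M hM
    have hfr : D0 ⊔ U = ⊤ := Sylow.normalizer_sup_eq_top P2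
    obtain ⟨d, hd, c, hc, rfl⟩ := mem_sup_of_normal_right.mp (hfr ▸ mem_top g)
    obtain ⟨k, hk⟩ := hc
    simp only at hk
    exact ⟨d * u ^ k, D0.mul_mem hd (D0.zpow_mem (le_normalizer huT) k), by
      rw [map_mul, map_mul, map_zpow, hφu, hk]⟩
  -- the translations
  let Pl : Subgroup W := z.range.comap q
  have hWN : ∀ v : W, (v : G) ∈ Nn := fun v => ⟨⟨hWH v.2, le_normalizer v.2⟩, by
    refine mem_normalizer_iff.mpr fun c => ?_
    have key : ∀ a ∈ W, ∀ c ∈ X', a * c * a⁻¹ ∈ X' := fun a ha c hc => by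
      have := mul_mem (hcomm a ha c (hX hc)) hc
      simpa [commutatorElement_def, mul_assoc] using this
    refine ⟨key v v.2 c, fun hc => ?_⟩
    have := key _ (inv_mem v.2) _ hc
    simpa [mul_assoc] using this⟩
  have hWact : ∀ v : W, Act ⟨v, hWN v⟩ 1 := by
    intro v a
    rw [matAct_one]
    obtain ⟨c, hc⟩ := QuotientGroup.mk'_surjective N (z (Multiplicative.ofAdd a))
    rw [← hc, hcq, show cw ⟨v, hWN v⟩ c = v * c * v⁻¹ from rfl, map_mul, map_mul, map_inv,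
      (hqc (q v) (q c)).eq, mul_inv_cancel_right]
  let inW : W →* KB := MonoidHom.mk' (fun v => ⟨⟨v, hWN v⟩, 1, by simp, hWact v⟩) (fun _ _ => rfl)
  have hφW : ∀ v, φh (inW v) = 1 := fun v => huniq _ _ _ (hφ _) (hWact v)
  have hcoeW : ∀ v : W, (((inW v : KB) : Nn) : G) = v := fun _ => rfl
  have hzW : ∀ (d : KB) (v : W) (hv : (((d : Nn) : G) * v * ((d : Nn) : G)⁻¹) ∈ W),
      ∀ a, q v = z (Multiplicative.ofAdd a) →
        q ⟨_, hv⟩ = z (Multiplicative.ofAdd (matAct (φh d) a)) := by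
    intro d v hv a hva
    have := hφ d a
    rw [← hva, hcq] at this
    exact this
  have hdisj : ∀ v : W, v ∈ Pl → inW v ∈ D0 → q v = 1 := by
    intro v hv hvD
    obtain ⟨a, ha⟩ := hv
    obtain ⟨a, rfl⟩ := Multiplicative.ofAdd.surjective a
    have h1 : u * inW v * u⁻¹ * (inW v)⁻¹ ∈ T2 := by
      rw [show u * inW v * u⁻¹ * (inW v)⁻¹ = u * (inW v * u⁻¹ * (inW v)⁻¹) by group]
      exact T2.mul_mem huT ((mem_normalizer_iff.mp hvD u⁻¹).mp (T2.inv_mem huT))
    set c := (((u : KB) : Nn) : G) * v * (((u : KB) : Nn) : G)⁻¹ with hcdef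
    have hcW : c ∈ W := (mem_normalizer_iff.mp ((u : KB) : Nn).2.1.2 v).mp v.2
    have hc1 : c = v := by
      obtain ⟨t, ht, hte⟩ := h1
      obtain ⟨j, hj⟩ := P2.2 ⟨t, ht⟩
      obtain ⟨i, hi⟩ := hW ⟨c * (v : G)⁻¹, mul_mem hcW (inv_mem v.2)⟩
      have hi' : (c * (v : G)⁻¹) ^ p ^ i = 1 := by simpa using congrArg Subtype.val hi
      have hval : ((((t : U) : KB) : Nn) : G) = c * (v : G)⁻¹ :=
        congrArg (fun k : KB => ((k : Nn) : G)) hte
      have hj' : (c * (v : G)⁻¹) ^ 2 ^ j = 1 := by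
        rw [← hval]
        simpa using congrArg (fun k : ↥(P2 : Subgroup U) => ((((k : U) : KB) : Nn) : G)) hj
      exact mul_inv_eq_one.mp (orderOf_eq_one_iff.mp (Nat.eq_one_of_dvd_coprimes
        (Nat.Coprime.pow j i ((Nat.coprime_primes Nat.prime_two hp').mpr (Ne.symm hp)))
        (orderOf_dvd_of_pow_eq_one hj') (orderOf_dvd_of_pow_eq_one hi')))
    have h2 := hzW u v hcW a ha.symm
    rw [hφu, show (⟨c, hcW⟩ : W) = v from Subtype.ext hc1, ← ha] at h2
    have h3 := Multiplicative.ofAdd.injective (hzinj h2)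
    have h4 : ∀ c : ZMod p, c = -c → c = 0 := by
      intro c hc
      have h5 : (2 : ZMod p) * c = 0 := by linear_combination hc
      refine (mul_eq_zero.mp h5).resolve_left fun h2' => hp ?_
      exact (Nat.prime_dvd_prime_iff_eq hp' Nat.prime_two).mp
        ((ZMod.natCast_eq_zero_iff 2 p).mp (by exact_mod_cast h2'))
    simp [matAct] at h3
    rw [← ha, show a = 0 from Prod.ext (h4 _ (congrArg Prod.fst h3)) (h4 _ (congrArg Prod.snd h3))]
    exact map_one z
  -- the subgroup of products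
  let D : Subgroup H :=
    { carrier := {g | ∃ v ∈ Pl, ∃ d ∈ D0, (g : G) = v * ((d : Nn) : G)}
      one_mem' := ⟨1, one_mem _, 1, one_mem _, by simp⟩
      mul_mem' := by
        rintro g g' ⟨v, hv, d, hd, hg⟩ ⟨v', hv', d', hd', hg'⟩
        have hc : ((d : Nn) : G) * v' * ((d : Nn) : G)⁻¹ ∈ W :=
          (mem_normalizer_iff.mp (d : Nn).2.1.2 v').mp v'.2
        refine ⟨v * ⟨_, hc⟩, mul_mem hv ?_, d * d', mul_mem hd hd', ?_⟩
        · obtain ⟨a, ha⟩ := hv'
          obtain ⟨a, rfl⟩ := Multiplicative.ofAdd.surjective a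
          exact ⟨_, (hzW d v' hc a ha.symm).symm⟩
        · simp only [Subgroup.coe_mul, hg, hg']; group
      inv_mem' := by
        rintro g ⟨v, hv, d, hd, hg⟩
        have hc : (((d⁻¹ : KB) : Nn) : G) * (v⁻¹ : W) * (((d⁻¹ : KB) : Nn) : G)⁻¹ ∈ W :=
          (mem_normalizer_iff.mp ((d⁻¹ : KB) : Nn).2.1.2 _).mp (v⁻¹ : W).2
        refine ⟨⟨_, hc⟩, ?_, d⁻¹, inv_mem hd, ?_⟩
        · obtain ⟨a, ha⟩ := inv_mem hv
          obtain ⟨a, rfl⟩ := Multiplicative.ofAdd.surjective a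
          exact ⟨_, (hzW d⁻¹ v⁻¹ hc a ha.symm).symm⟩
        · simp only [Subgroup.coe_inv, hg]; group }
  choose vf hvf df hdf hgd using fun g : D => (g.2 : ∃ v ∈ Pl, ∃ d ∈ D0, ((g : H) : G) = v * ((d : Nn) : G))
  choose af haf using hvf
  have hinj : ∀ (g : D) (v : W) (d : KB) (a : Multiplicative (ZMod p × ZMod p)), d ∈ D0 → z a = q v →
      ((g : H) : G) = v * ((d : Nn) : G) → af g = a ∧ φh (df g) = φh d := by
    intro g v d a hd ha hg
    have h1 : inW (v⁻¹ * vf g) = d * (df g)⁻¹ := by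
      apply Subtype.ext
      apply Subtype.ext
      show (v : G)⁻¹ * vf g = ((d : Nn) : G) * ((df g : Nn) : G)⁻¹
      rw [eq_mul_inv_iff_mul_eq, mul_assoc, ← hgd g, hg, inv_mul_cancel_left]
    have hmem : v⁻¹ * vf g ∈ Pl := mul_mem (inv_mem ⟨a, ha⟩) ⟨_, haf g⟩
    have h2 := hdisj _ hmem (h1 ▸ mul_mem hd (inv_mem (hdf g)))
    rw [map_mul, map_inv, inv_mul_eq_one] at h2
    refine ⟨hzinj ((haf g).trans (h2.symm.trans ha.symm)), ?_⟩
    have := congrArg φh h1
    rw [hφW, map_mul, map_inv] at this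
    exact (mul_inv_eq_one.mp this.symm).symm
  let f : D →* Matrix.SpecialLinearGroup (Fin 3) (ZMod p) := MonoidHom.mk'
    (fun g => affMat (Multiplicative.toAdd (af g)).1 (Multiplicative.toAdd (af g)).2 (φh (df g))) (by
      intro g g'
      have hc : ((df g : Nn) : G) * vf g' * ((df g : Nn) : G)⁻¹ ∈ W :=
        (mem_normalizer_iff.mp (df g : Nn).2.1.2 (vf g')).mp (vf g').2
      have e2 := hzW (df g) (vf g') hc (Multiplicative.toAdd (af g')) (haf g').symm
      obtain ⟨e3, e4⟩ := hinj (g * g') (vf g * ⟨_, hc⟩) (df g * df g')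
        (af g * Multiplicative.ofAdd (matAct (φh (df g)) (Multiplicative.toAdd (af g'))))
        (mul_mem (hdf g) (hdf g')) (by rw [map_mul, map_mul, haf g, e2]) (by
          simp only [Subgroup.coe_mul, hgd g, hgd g']; group)
      rw [affMat_mul, e3, e4, toAdd_mul, map_mul φh]
      rfl)
  have hrange : f.range = Cfsg.fOver (ZMod p) := by
    apply le_antisymm
    · rintro _ ⟨g, rfl⟩
      refine subset_closure ⟨?_, rfl, rfl, rfl⟩
      exact hφ0 (df g)
    · refine (closure_le _).mpr fun M hM => ?_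
      obtain ⟨h10, h20, h21, h22⟩ := hM
      obtain ⟨c, d, A, rfl⟩ := exists_affMat M ⟨h20, h21, h22⟩
      have hA : A 1 0 = 0 := h10
      obtain ⟨k, hk, hkA⟩ := hD0surj A hA
      obtain ⟨v, hv⟩ := QuotientGroup.mk'_surjective N (z (Multiplicative.ofAdd (c, d)))
      let g : D := ⟨⟨v * ((k : Nn) : G), mul_mem (hWH v.2) (k : Nn).2.1.1⟩, v, ⟨_, hv.symm⟩, k, hk, rfl⟩
      obtain ⟨e3, e4⟩ := hinj g v k _ hk hv.symm rfl
      refine ⟨g, ?_⟩
      show affMat _ _ _ = _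
      rw [e3, e4, hkA]
      rfl
  exact involves_of_surjective D ((MulEquiv.subgroupCongr hrange).toMonoidHom.comp f.rangeRestrict)
    ((MulEquiv.subgroupCongr hrange).surjective.comp f.rangeRestrict_surjective)

end CfsgLib.ZJFail
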