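import Cfsg.Agent.ZJFail.Plane
import Cfsg.Agent.ZJFail.Eigen
import Cfsg.Agent.ZJFail.FOver

/-!
The conclusion from the final configuration.
-/

set_option autoImplicit false

namespace CfsgLib.ZJFail

open Subgroup CfsgLib.ZJ CfsgLib.Functor
open scoped CfsgLib.Functor commutatorElement

variable {G : Type*} [Group G] [Finite G] {p : ℕ} [Fact p.Prime]

/-- The assertion to be proved. -/
def Concl (p : ℕ) [Fact p.Prime] (H Z : Subgroup G) : Prop :=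
  Cfsg.Involves ↥(Cfsg.fOver (ZMod p)) ↥H ∧ ∃ C : Subgroup G, C ≤ Z ∧ Nat.card C = p ∧
    (H ⊓ centralizer (C : Set G)).relIndex (H ⊓ normalizer (C : Set G)) = p - 1

omit [Fact p.Prime] in
theorem mem_normalizer_of_agree {P U : Subgroup G} (hU : U ≤ P) {h τ : G}
    (he : ∀ a ∈ P, h * a * h⁻¹ = τ * a * τ⁻¹) (hτ : τ ∈ normalizer (U : Set G)) :
    h ∈ normalizer (U : Set G) := by
  refine mem_normalizer_iff_cj.mpr (eq_of_le_of_card_le' ?_ (card_cj h U).ge)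
  rw [cj_le_iff]
  exact fun a ha => by rw [he a (hU ha)]; exact (mem_normalizer_iff.mp hτ a).mp ha

theorem Ready.concl (hp : p ≠ 2) {S H Z : Subgroup G} (R : Ready p S H Z) (hS : IsPGroup p S)
    (hSH : S ≤ H) (hZc : ∀ u ∈ Z, ∀ v ∈ Z, u * v = v * u) : Concl p H Z := by
  obtain ⟨α, hα⟩ := IsCyclic.exists_generator (α := (ZMod p)ˣ)
  obtain ⟨W, X', w, x, τ, hB0X, hXW, hWB, hyW, hw, hxT, hτ, hxW, hxX, hτW, hτX, hind, hxy, hxw,
    hτy, hτw⟩ := R.exists_plane hp α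
  obtain ⟨h, hh, he⟩ := R.hfus τ hτ
  have hWP : W ≤ R.P := hWB.trans R.hBP
  have hPS : R.P ≤ S := R.hPT.trans R.hTS
  have hWp : IsPGroup p W := hS.to_le (hWP.trans hPS)
  have hhy : h * R.y * h⁻¹ * (R.y ^ (α : ZMod p).val)⁻¹ ∈ X' := by rw [he _ (hWP hyW)]; exact hτy
  refine ⟨involves_fOver hp hWp (hWP.trans (hPS.trans hSH)) hXW
    (fun u hu v hv => hB0X (R.hcen u (hWB hu) v (hWP hv))) (fun u hu => hB0X (R.hpow u (hWB hu)))
    hyW hw hind (hSH (R.hTS hxT)) hxW hxX hh (mem_normalizer_of_agree hWP he hτW)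
    (mem_normalizer_of_agree (hXW.trans hWP) he hτX) α hα hxy hxw hhy
    (by rw [he _ (hWP hw)]; exact hτw), ?_⟩
  set Y := R.B ⊓ Z with hY
  have hτW1 : τ ∈ normalizer ((Y ⊓ W : Subgroup G) : Set G) :=
    mem_normalizer_iff.mpr fun u => and_congr (mem_normalizer_iff.mp (R.hM0Y hτ) u)
      (mem_normalizer_iff.mp hτW u)
  have hτW0 : τ ∈ normalizer ((Y ⊓ X' : Subgroup G) : Set G) :=
    mem_normalizer_iff.mpr fun u => and_congr (mem_normalizer_iff.mp (R.hM0Y hτ) u)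
      (mem_normalizer_iff.mp hτX u)
  have hhW1 := mem_normalizer_of_agree ((inf_le_right : Y ⊓ W ≤ W).trans hWP) he hτW1
  have hhW0 := mem_normalizer_of_agree ((inf_le_right : Y ⊓ X' ≤ X').trans (hXW.trans hWP)) he hτW0
  have hy0 : R.y ∉ Y ⊓ X' := by
    intro hm
    exact (Fact.out : p.Prime).one_lt.ne' (Nat.dvd_one.mp (hind 1 0 (by simpa using hm.2)).1)
  obtain ⟨C, hC, hcard, hrel⟩ := exists_full_automizer (W1 := Y ⊓ W) (W0 := Y ⊓ X')
    (hWp.to_le inf_le_right) (fun u hu v hv => hZc u hu.1.2 v hv.1.2) (inf_le_inf_left Y hXW) hh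
    hhW1 hhW0 (y := R.y) ⟨R.hy, hyW⟩ hy0 α hα
    ⟨mul_mem ((mem_normalizer_iff.mp hhW1 R.y).mp ⟨R.hy, hyW⟩).1 ((R.B ⊓ Z).inv_mem ((R.B ⊓ Z).pow_mem R.hy _)), hhy⟩
  exact ⟨C, hC.trans (inf_le_left.trans inf_le_right), hcard, hrel⟩

end CfsgLib.ZJFail
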