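import Cfsg.Agent.ZJFail.ModKer

/-!
A measure on the subgroups between a normal subgroup and a Sylow subgroup, and downward induction
for fusion along it.
-/

set_option autoImplicit false

namespace CfsgLib.ZJFail

open Subgroup CfsgLib.ZJ CfsgLib.Functor
open scoped CfsgLib.Functor commutatorElement

variable {G : Type*} [Group G] [Finite G]

/-- The order of the members, then of the subgroup they generate, then of the subgroup. -/
noncomputable def key (E Q : Subgroup G) : ℕ :=
  (dmod E Q * (Nat.card G + 1) + Nat.card (Jmod E Q)) * (Nat.card G + 1) + Nat.card Q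

theorem pair_lt {N a b b' : ℕ} (hb : b ≤ N) {a' : ℕ} (h : a < a') :
    a * (N + 1) + b < a' * (N + 1) + b' := by
  have h2 : (a + 1) * (N + 1) ≤ a' * (N + 1) := Nat.mul_le_mul_right _ h
  rw [add_mul, one_mul] at h2
  omega

variable {E : Subgroup G} [E.Normal]

theorem key_lt {Q R : Subgroup G} (hE : E ≤ Q) (hlt : Q < R) : key E Q < key E R := by
  have hc : Nat.card Q < Nat.card R := Solvable.card_lt_of_lt hlt
  have hQ : Nat.card Q ≤ Nat.card G := card_le_card_group Q
  have hJ : Nat.card (Jmod E Q) ≤ Nat.card G := card_le_card_group _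
  rcases (dmod_mono hE hlt.le).lt_or_eq with hd | hd
  · exact pair_lt hQ (pair_lt hJ hd)
  have hJ2 : Nat.card (Jmod E Q) ≤ Nat.card (Jmod E R) :=
    card_le_of_le (sSup_le_sSup (fam_subset hE hlt.le hd))
  rcases hJ2.lt_or_eq with hJ3 | hJ3
  · exact pair_lt hQ (by rw [hd]; omega)
  · unfold key
    rw [hd, hJ3]
    omega

theorem key_cj {Q : Subgroup G} (hE : E ≤ Q) (g : G) : key E (g ⋆ Q) = key E Q := by
  rw [key, key, dmod_cj hE, ← Jmod_cj, card_cj, card_cj]

/-- A larger subgroup with another `Jmod` has larger measure. -/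
theorem key_lt_of_Jmod_ne {R Q Q' : Subgroup G} (hE : E ≤ Q) (hle : Q ≤ Q')
    (hd : dmod E Q = dmod E R) (hJ : Jmod E Q = Jmod E R) (hne : Jmod E Q' ≠ Jmod E R) :
    key E R < key E Q' := by
  have hR : Nat.card R ≤ Nat.card G := card_le_card_group R
  have hJR : Nat.card (Jmod E R) ≤ Nat.card G := card_le_card_group _
  rcases (dmod_mono hE hle).lt_or_eq with h | h
  · exact pair_lt hR (pair_lt hJR (hd ▸ h))
  have hJle : Jmod E R ≤ Jmod E Q' := hJ ▸ sSup_le_sSup (fam_subset hE hle h)
  refine pair_lt hR ?_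
  rw [← hd, h]
  have := Solvable.card_lt_of_lt (lt_of_le_of_ne hJle (Ne.symm hne))
  omega

variable {p : ℕ} [Fact p.Prime]

/-- Fusion from extremal, self-centralizing subgroups of at least a given measure. -/
theorem fused_down (S : Sylow p G) {H : Subgroup G}
    (hNS : normalizer ((S : Subgroup G) : Set G) ≤ H) (hES : E ≤ S) (k : ℕ)
    (hgood : ∀ R : Subgroup G, R ≤ S → E ≤ R → IsExtremal p (S : Subgroup G) R →
      (S : Subgroup G) ⊓ centralizer (R : Set G) ≤ R → k ≤ key E R →
        ∀ n ∈ normalizer (R : Set G), Fused H R n)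
    (A : Subgroup G) (g : G) (hA : A ≤ S) (hg : g ⋆ A ≤ S) (hEA : E ≤ A) (hk : k ≤ key E A) :
    Fused H A g := by
  obtain ⟨m, hm⟩ : ∃ m, Nat.card (S : Subgroup G) - Nat.card A = m := ⟨_, rfl⟩
  induction m using Nat.strong_induction_on generalizing A g with
  | _ m ih =>
    subst hm
    by_cases hAS : A = (S : Subgroup G)
    · subst hAS
      exact Fused.of_mem (hNS (mem_normalizer_iff_cj.2 (eq_of_le_of_card_le' hg (card_cj g _).ge)))
    have hup : ∀ (B : Subgroup G) (f : G), B ≤ S → f ⋆ B ≤ S → E ≤ B →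
        k ≤ key E B → Nat.card A < Nat.card B → Fused H B f := by
      intro B f hB hf hEB hkB hlt
      refine ih _ ?_ B f hB hf hEB hkB rfl
      have := card_le_of_le hB
      omega
    have hE' : ∀ f : G, E ≤ f ⋆ A := fun f e he =>
      mem_cj.mpr (hEA (by simpa using ‹E.Normal›.conj_mem e he f⁻¹))
    have grow : ∀ (B : Subgroup G) (f : G), B ≤ S → Nat.card B = Nat.card A → k ≤ key E B → E ≤ B →
        f ⋆ ((S : Subgroup G) ⊓ normalizer (B : Set G)) ≤ S → Fused H B f := by
      intro B f hB hc hkB hEB hf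
      have hlt : B < (S : Subgroup G) ⊓ normalizer (B : Set G) :=
        lt_inf_normalizer S.2 (lt_of_le_of_ne hB fun he => hAS
          (eq_of_le_of_card_le' hA (by rw [← he, hc])))
      exact (hup _ f inf_le_left hf (hEB.trans hlt.le)
        (hkB.trans (key_lt hEB hlt).le) (hc ▸ Solvable.card_lt_of_lt hlt)).mono hlt.le
    obtain ⟨h, hU, hN, hext⟩ := exists_extremal S hA
    have hAh : Fused H A h := grow A h hA rfl hk hEA hN
    obtain ⟨n₀, -, hkU, hkN⟩ := exists_cj_normalizer_le S hext
      (h := h * g⁻¹) (A := g ⋆ A) (by rw [cj_cj, mul_assoc, inv_mul_cancel, mul_one])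
    set f := n₀ * (h * g⁻¹) with hf
    have hgf : Fused H (g ⋆ A) f :=
      grow _ f hg (card_cj g A) (by rwa [key_cj hEA]) (hE' g) hkN
    set B := h ⋆ A with hB
    have hn : f * g * h⁻¹ ∈ normalizer (B : Set G) := by
      rw [mem_normalizer_iff_cj, hB, cj_cj, inv_mul_cancel_right, ← cj_cj, hkU]
    have hBn : Fused H B (f * g * h⁻¹) := by
      by_cases hCB : (S : Subgroup G) ⊓ centralizer (B : Set G) ≤ B
      · exact hgood B hU (hE' h) hext hCB (by rwa [hB, key_cj hEA]) _ hn
      set N := normalizer (B : Set G) with hNdef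
      obtain ⟨c, hc, e, he, hce⟩ := exists_frattini (K := N ⊓ centralizer (B : Set G)) (P := B)
        (hext.sylowIn S.2) inf_le_left
        ((le_inf le_normalizer (centralizer_normalized le_rfl)).trans normalizer_inf_le) le_rfl
        (fun x hx => ⟨0, by simpa using hx.2⟩) hn
      set Q := ((S : Subgroup G) ⊓ N) ⊓ (N ⊓ centralizer (B : Set G)) with hQ
      have hQle : (S : Subgroup G) ⊓ centralizer (B : Set G) ≤ Q := by
        intro x hx
        have hxN : x ∈ N := mem_normalizer_iff_cj.mpr (by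
          refine eq_of_le_of_card_le' (cj_le_iff.mpr fun u hu => ?_) (card_cj x _).ge
          rwa [← mem_centralizer_iff.mp hx.2 u hu, mul_inv_cancel_right])
        exact ⟨⟨hx.1, hxN⟩, hxN, hx.2⟩
      have hlt : B < B ⊔ Q := lt_of_le_of_ne le_sup_left fun he' =>
        hCB ((hQle.trans le_sup_right).trans he'.ge)
      have heB : e ∈ normalizer ((B ⊔ Q : Subgroup G) : Set G) :=
        normalizer_sup_le ⟨he.1, he.2⟩
      have hle : B ⊔ Q ≤ (S : Subgroup G) := sup_le hU (inf_le_left.trans inf_le_left)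
      have hBe : Fused H (B ⊔ Q) e := hup _ e hle
        (by rw [mem_normalizer_iff_cj.mp heB]; exact hle)
        ((hE' h).trans le_sup_left) ((key_cj hEA h ▸ hk : k ≤ key E B).trans (key_lt (hE' h) hlt).le)
        ((card_cj h A).symm.trans_lt (Solvable.card_lt_of_lt hlt))
      rw [hce]
      exact fused_mul_left he.1 hc.2 (hBe.mono le_sup_left)
    have h1 : Fused H A (f * g) := by simpa using hAh.comp hBn
    have h2 : Fused H ((f * g) ⋆ A) f⁻¹ := by
      have := hgf.inv
      rwa [cj_cj] at this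
    simpa using h1.comp h2

end CfsgLib.ZJFail
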