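import Cfsg.Agent.ZJ.Quadratic
import Cfsg.Agent.ZJ.QdSection
import Cfsg.Agent.ZJ.ZJThm
import Mathlib.RingTheory.PrincipalIdealDomain
import Mathlib.Algebra.Polynomial.Module.AEval

/-!
A two-dimensional quotient generated by a fixed vector of one of two quadratic elements, and a
torus element in the normalizer of a given Sylow subgroup.
-/

set_option autoImplicit false
set_option linter.style.haveILetI false
set_option linter.unusedSimpArgs false

namespace CfsgLib.ZJFail

open CfsgLib.ZJ Polynomial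
open scoped Classical

variable {p : ℕ} [Fact p.Prime]

section Plane

variable {V : Type*} [AddCommGroup V] [Module (ZMod p) V] [Finite V]
  {K : Type*} [Group K] [Finite K] (ρ : K →* Module.End (ZMod p) V)

/-- Two quadratic elements and a vector fixed by the first give a two-dimensional quotient of the
span of the orbit, unless the group acts on this span as a p-group. -/
theorem exists_field_plane (x b : K) (hgen : Subgroup.closure {x, b} = ⊤)
    (hx : (ρ x - 1) * (ρ x - 1) = 0) (hb : (ρ b - 1) * (ρ b - 1) = 0) (y : V) (hy : ρ x y = y)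
    (hnu : ¬ ∀ g : K, ∃ j, ∀ k : K, ρ (g ^ p ^ j) (ρ k y) = ρ k y) :
    ∃ (F : Type) (_ : Field F) (_ : CharP F p) (lam : F) (φ : K →* SL2 F) (W : Submodule (ZMod p) V)
      (ψ : W →+ F × F) (hy : y ∈ W), lam ≠ 0 ∧ φ x = upper 1 ∧ φ b = lower lam ∧
        ψ ⟨y, hy⟩ = (1, 0) ∧ Function.Surjective ψ ∧
        ∀ (k : K) (z : W), ∃ h : ρ k z ∈ W, ψ ⟨ρ k z, h⟩ =
          (φ k 0 0 * (ψ z).1 + φ k 0 1 * (ψ z).2, φ k 1 0 * (ψ z).1 + φ k 1 1 * (ψ z).2) := by
  set A := ρ x - 1 with hA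
  set B := ρ b - 1 with hB
  set T : Module.End (ZMod p) V := A * B + B * A with hT
  have hAT : A * T = T * A := by
    rw [hT, mul_add, add_mul, ← mul_assoc, hx, zero_mul, zero_add, mul_assoc B, hx, mul_zero,
      add_zero, ← mul_assoc]
  have hBT : B * T = T * B := by
    rw [hT, mul_add, add_mul, ← mul_assoc B B, hb, zero_mul, add_zero, mul_assoc A, hb, mul_zero,
      zero_add, ← mul_assoc]
  have hAy : A y = 0 := by rw [hA, LinearMap.sub_apply, hy, Module.End.one_apply, sub_self]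
  have hABy : A (B y) = T y := by
    rw [hT, LinearMap.add_apply, Module.End.mul_apply, Module.End.mul_apply, hAy, map_zero, add_zero]
  have hBB : ∀ v, B (B v) = 0 := fun v => by rw [← Module.End.mul_apply, hb]; rfl
  have comm : ∀ (C : Module.End (ZMod p) V), C * T = T * C → ∀ (f : (ZMod p)[X]) v,
      C (aeval T f v) = aeval T f (C v) := by
    intro C hC f v
    have h : Commute C (aeval T f) := by
      induction f using Polynomial.induction_on' with
      | add f g hf hg => rw [map_add]; exact hf.add_right hg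
      | monomial n a =>
        rw [aeval_monomial]
        exact (Algebra.commute_algebraMap_right a C).mul_right (Commute.pow_right hC n)
    exact LinearMap.congr_fun h v
  -- the span of the orbit
  let Φ : (ZMod p)[X] × (ZMod p)[X] →ₗ[ZMod p] V :=
    ((LinearMap.applyₗ y).comp (aeval T).toLinearMap).coprod
      ((LinearMap.applyₗ (B y)).comp (aeval T).toLinearMap)
  have hΦ : ∀ f g, Φ (f, g) = aeval T f y + aeval T g (B y) := fun _ _ => rfl
  have hXmul : ∀ (f : (ZMod p)[X]) (v : V), aeval T (f * X) v = aeval T f (T v) := fun f v => by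
    rw [map_mul, aeval_X, Module.End.mul_apply]
  have hAΦ : ∀ q, A (Φ q) = Φ (q.2 * X, 0) := by
    rintro ⟨f, g⟩
    rw [hΦ, hΦ, map_add, comm A hAT, comm A hAT, hAy, map_zero, zero_add, hABy, hXmul, map_zero,
      LinearMap.zero_apply, add_zero]
  have hBΦ : ∀ q, B (Φ q) = Φ (0, q.1) := by
    rintro ⟨f, g⟩
    rw [hΦ, hΦ, map_add, comm B hBT, comm B hBT, hBB, map_zero, add_zero, map_zero,
      LinearMap.zero_apply, zero_add]
  set W := LinearMap.range Φ with hW
  have hyW : y ∈ W := ⟨(1, 0), by rw [hΦ]; simp⟩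
  have hclosed : ∀ k : K, ∀ z ∈ W, ρ k z ∈ W := by
    intro k
    have hk : k ∈ Subgroup.closure {x, b} := hgen ▸ Subgroup.mem_top k
    induction hk using Subgroup.closure_induction with
    | mem u hu =>
      rintro _ ⟨q, rfl⟩
      rcases hu with rfl | rfl
      · have : ρ u (Φ q) = Φ q + A (Φ q) := by simp [hA]
        rw [this, hAΦ]
        exact add_mem ⟨q, rfl⟩ ⟨_, rfl⟩
      · have : ρ u (Φ q) = Φ q + B (Φ q) := by simp [hB]
        rw [this, hBΦ]
        exact add_mem ⟨q, rfl⟩ ⟨_, rfl⟩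
    | one => simp
    | mul u v _ _ hu hv => intro z hz; rw [map_mul]; exact hu _ (hv z hz)
    | inv u _ hu =>
      intro z hz
      have hp : ∀ n : ℕ, ρ (u ^ n) z ∈ W := by
        intro n
        induction n with
        | zero => simpa using hz
        | succ n ih => rw [pow_succ', map_mul]; exact hu _ ih
      have h1 : u⁻¹ = u ^ (orderOf u - 1) := by
        apply inv_eq_of_mul_eq_one_left
        rw [← pow_succ, Nat.sub_add_cancel (orderOf_pos u), pow_orderOf_eq_one]
      rw [h1]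
      exact hp _
  -- the annihilator of `y`
  let I : Ideal (ZMod p)[X] :=
    { carrier := {f | aeval T f y = 0}
      zero_mem' := by simp
      add_mem' := fun {f g} (hf : aeval T f y = 0) (hg : aeval T g y = 0) =>
        show aeval T (f + g) y = 0 by rw [map_add, LinearMap.add_apply, hf, hg, add_zero]
      smul_mem' := fun c f (hf : aeval T f y = 0) =>
        show aeval T (c * f) y = 0 by rw [map_mul, Module.End.mul_apply, hf, map_zero] }
  have hI : ∀ f, f ∈ I ↔ aeval T f y = 0 := fun _ => Iff.rfl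
  have hI0 : I ≠ ⊥ := by
    intro h0
    have hinj : Function.Injective (fun f : (ZMod p)[X] => aeval T f y) := by
      intro f g hfg
      have : f - g ∈ I := by
        rw [hI, map_sub, LinearMap.sub_apply]
        exact sub_eq_zero.mpr hfg
      rw [h0, Ideal.mem_bot, sub_eq_zero] at this
      exact this
    have := Finite.of_injective _ hinj
    exact not_finite (ZMod p)[X]
  have hrad : X ∉ I.radical := by
    rintro ⟨N, hN⟩
    apply hnu
    intro g
    let σ : K →* Module.End (ZMod p) W :=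
      { toFun := fun k => (ρ k).restrict (hclosed k)
        map_one' := by apply LinearMap.ext; intro z; apply Subtype.ext; simp
        map_mul' := fun k l => by apply LinearMap.ext; intro z; apply Subtype.ext; simp }
    have hσ : ∀ k (z : W), ((σ k z : W) : V) = ρ k z := fun _ _ => rfl
    have hsq : ∀ (C : K), (ρ C - 1) * (ρ C - 1) = 0 → (σ C - 1) * (σ C - 1) = 0 := by
      intro C hC
      apply LinearMap.ext
      intro z
      apply Subtype.ext
      have h := LinearMap.congr_fun hC (z : V)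
      simp only [Module.End.mul_apply, LinearMap.sub_apply, Module.End.one_apply, LinearMap.zero_apply,
        map_sub] at h
      simpa [hσ] using h
    have hTW : ∀ (n : ℕ) (z : W), ((((σ x - 1) * (σ b - 1)) ^ n) z : V) = ((A * B) ^ n) (z : V) := by
      intro n
      induction n with
      | zero => simp
      | succ n ih =>
        intro z
        rw [pow_succ, pow_succ, Module.End.mul_apply, Module.End.mul_apply, ih]
        simp [hσ, hA, hB]
    have hpow : ∀ n : ℕ, (A * B) ^ (n + 1) = A * B * T ^ n := by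
      intro n
      induction n with
      | zero => simp
      | succ n ih =>
        have h1 : Commute (A * B) T := (show Commute A T from hAT).mul_left hBT
        have h2 : A * B * (A * B) = A * B * T := by
          rw [hT, mul_add, show A * B * (B * A) = A * (B * B) * A by simp only [mul_assoc], hb,
            mul_zero, zero_mul, add_zero]
        rw [pow_succ, ih, mul_assoc, ← (h1.pow_right n).eq, ← mul_assoc, h2, mul_assoc, ← pow_succ']
    obtain ⟨M, hM⟩ := unipotent_of_nilpotent σ x b (hsq x hx) (hsq b hb) (N := N + 1) (by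
      apply LinearMap.ext
      intro z
      apply Subtype.ext
      rw [hTW, hpow, Module.End.mul_apply]
      obtain ⟨⟨f, g⟩, hfg⟩ := z.2
      have h0 : (T ^ N) (z : V) = 0 := by
        have e : T ^ N = aeval T ((X : (ZMod p)[X]) ^ N) := by rw [map_pow, aeval_X]
        rw [← hfg, hΦ, map_add, e, ← Module.End.mul_apply, ← map_mul, mul_comm, map_mul,
          Module.End.mul_apply, hN, map_zero, zero_add, ← Module.End.mul_apply, ← map_mul, mul_comm,
          map_mul, Module.End.mul_apply, ← comm B hBT, hN, map_zero, map_zero]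
      rw [h0, map_zero]
      rfl) (g := g) (hgen ▸ Subgroup.mem_top g)
    refine ⟨M, fun k => ?_⟩
    have hle : M ≤ p ^ M := (Nat.lt_pow_self (Fact.out : p.Prime).one_lt).le
    by_cases hWs : Subsingleton W
    · exact congrArg Subtype.val (Subsingleton.elim (σ (g ^ p ^ M) ⟨_, hclosed k y hyW⟩) ⟨_, hclosed k y hyW⟩)
    have : Nontrivial W := not_subsingleton_iff_nontrivial.mp hWs
    have : CharP (Module.End (ZMod p) W) p :=
      charP_of_injective_algebraMap
        (FaithfulSMul.algebraMap_injective (ZMod p) (Module.End (ZMod p) W)) p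
    have e := sub_pow_char_pow_of_commute (p := p) (n := M) (Commute.one_right (σ g))
    rw [one_pow, ← Nat.sub_add_cancel hle, pow_add, hM, mul_zero, Nat.sub_add_cancel hle] at e
    have h1 := sub_eq_zero.mp e.symm
    rw [← map_pow] at h1
    exact congrArg Subtype.val (LinearMap.congr_fun h1 ⟨_, hclosed k y hyW⟩)
  rw [Ideal.radical_eq_sInf, Submodule.mem_sInf] at hrad
  push Not at hrad
  obtain ⟨(P : Ideal (ZMod p)[X]), ⟨(hIP : I ≤ P), (hP : Ideal.IsPrime P)⟩, hXP⟩ := hrad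
  haveI hPmax : P.IsMaximal := hP.isMaximal fun h => hI0 (le_bot_iff.mp (h ▸ hIP))
  letI : Field ((ZMod p)[X] ⧸ P) := Ideal.Quotient.field P
  let π := Ideal.Quotient.mk P
  haveI : CharP ((ZMod p)[X] ⧸ P) p :=
    charP_of_injective_ringHom (π.comp (C : ZMod p →+* (ZMod p)[X])).injective p
  set lam : (ZMod p)[X] ⧸ P := π X with hlam
  have hlam0 : lam ≠ 0 := fun h => hXP (Ideal.Quotient.eq_zero_iff_mem.mp h)
  let ψ0 : (ZMod p)[X] × (ZMod p)[X] →+ ((ZMod p)[X] ⧸ P) × ((ZMod p)[X] ⧸ P) :=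
    { toFun := fun q => (π q.1, lam * π q.2)
      map_zero' := by simp
      map_add' := fun q r => by simp [mul_add] }
  have hker : ∀ q, Φ q = 0 → ψ0 q = 0 := by
    rintro ⟨f, g⟩ h
    have hg : g * X ∈ P := by
      refine hIP ((hI _).mpr ?_)
      have := hAΦ (f, g)
      rw [h, map_zero, hΦ] at this
      simpa using this.symm
    have hf : f * X ∈ P := by
      refine hIP ((hI _).mpr ?_)
      have h2 := hBΦ (f, g)
      rw [h, map_zero] at h2
      have h3 := hAΦ (0, f)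
      rw [← h2, map_zero, hΦ] at h3
      simpa using h3.symm
    have hg' := (hP.mem_or_mem hg).resolve_right hXP
    have hf' := (hP.mem_or_mem hf).resolve_right hXP
    show (π f, lam * π g) = 0
    rw [Ideal.Quotient.eq_zero_iff_mem.mpr hf', Ideal.Quotient.eq_zero_iff_mem.mpr hg', mul_zero]
    rfl
  have hwd : ∀ q r, Φ q = Φ r → ψ0 q = ψ0 r := fun q r h => by
    rw [← sub_eq_zero, ← map_sub]
    exact hker _ (by rw [map_sub, h, sub_self])
  choose pre hpre using fun z : W => z.2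
  let ψ : W →+ ((ZMod p)[X] ⧸ P) × ((ZMod p)[X] ⧸ P) :=
    { toFun := fun z => ψ0 (pre z)
      map_zero' := by rw [← map_zero ψ0]; exact hwd _ _ (by rw [hpre, map_zero]; rfl)
      map_add' := fun z w => by rw [← map_add ψ0]; exact hwd _ _ (by rw [map_add, hpre, hpre, hpre]; rfl) }
  have hψ : ∀ q (h : Φ q ∈ W), ψ ⟨Φ q, h⟩ = ψ0 q := fun q h => hwd _ _ (hpre _)
  have hsurj : Function.Surjective ψ := by
    rintro ⟨c, d⟩
    obtain ⟨f, rfl⟩ := Ideal.Quotient.mk_surjective c
    obtain ⟨g, hg⟩ := Ideal.Quotient.mk_surjective (lam⁻¹ * d)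
    refine ⟨⟨Φ (f, g), ⟨_, rfl⟩⟩, ?_⟩
    refine (hψ (f, g) _).trans ?_
    show (π f, lam * π g) = _
    rw [show π g = lam⁻¹ * d from hg, ← mul_assoc, mul_inv_cancel₀ hlam0, one_mul]
  let Mat : K → SL2 ((ZMod p)[X] ⧸ P) → Prop := fun k M => ∀ z : W,
    ψ ⟨ρ k z, hclosed k z z.2⟩ =
      (M 0 0 * (ψ z).1 + M 0 1 * (ψ z).2, M 1 0 * (ψ z).1 + M 1 1 * (ψ z).2)
  have huniq : ∀ k M N, Mat k M → Mat k N → M = N := by
    intro k M N hM hN
    obtain ⟨z1, hz1⟩ := hsurj (1, 0)
    obtain ⟨z2, hz2⟩ := hsurj (0, 1)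
    have e1 := (hM z1).symm.trans (hN z1)
    have e2 := (hM z2).symm.trans (hN z2)
    simp only [hz1, hz2, mul_one, mul_zero, add_zero, zero_add, Prod.mk.injEq] at e1 e2
    exact sl2_ext e1.1 e2.1 e1.2 e2.2
  have hmul : ∀ k l M N, Mat k M → Mat l N → Mat (k * l) (M * N) := by
    intro k l M N hM hN z
    have e : (⟨ρ (k * l) z, hclosed (k * l) z z.2⟩ : W) =
        ⟨ρ k (ρ l z), hclosed k _ (hclosed l z z.2)⟩ := Subtype.ext (LinearMap.congr_fun (map_mul ρ k l) (z : V))
    rw [e, hM ⟨_, hclosed l z z.2⟩, hN z]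
    simp only [sl2_mul]
    exact Prod.ext (by ring) (by ring)
  have hone : Mat 1 1 := fun z => by simp
  have hxM : Mat x (upper 1) := by
    rintro ⟨_, q, rfl⟩
    have e : ρ x (Φ q) = Φ (q + (q.2 * X, 0)) := by
      rw [map_add, ← hAΦ]; simp [hA]
    have e' : (⟨ρ x (Φ q), hclosed x _ ⟨q, rfl⟩⟩ : W) = ⟨Φ (q + (q.2 * X, 0)), ⟨_, rfl⟩⟩ :=
      Subtype.ext e
    rw [e']
    erw [hψ, hψ]
    rw [map_add]
    obtain ⟨f, g⟩ := q
    refine Prod.ext ?_ ?_
    · show π f + π (g * X) = (1 : _) * π f + 1 * (lam * π g)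
      rw [map_mul, hlam]; ring
    · show lam * π g + lam * π 0 = (0 : _) * π f + 1 * (lam * π g)
      rw [map_zero]; ring
  have hbM : Mat b (lower lam) := by
    rintro ⟨_, q, rfl⟩
    have e : ρ b (Φ q) = Φ (q + (0, q.1)) := by
      rw [map_add, ← hBΦ]; simp [hB]
    have e' : (⟨ρ b (Φ q), hclosed b _ ⟨q, rfl⟩⟩ : W) = ⟨Φ (q + (0, q.1)), ⟨_, rfl⟩⟩ :=
      Subtype.ext e
    rw [e']
    erw [hψ, hψ]
    rw [map_add]
    obtain ⟨f, g⟩ := q
    refine Prod.ext ?_ ?_
    · show π f + π 0 = (1 : _) * π f + 0 * (lam * π g)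
      rw [map_zero]; ring
    · show lam * π g + lam * π f = lam * π f + 1 * (lam * π g)
      ring
  have hall : ∀ k : K, ∃ M, Mat k M := by
    intro k
    have hk : k ∈ Subgroup.closure {x, b} := hgen ▸ Subgroup.mem_top k
    induction hk using Subgroup.closure_induction with
    | mem u hu =>
      rcases hu with rfl | rfl
      exacts [⟨_, hxM⟩, ⟨_, hbM⟩]
    | one => exact ⟨1, hone⟩
    | mul u v _ _ hu hv => exact ⟨_, hmul _ _ _ _ hu.choose_spec hv.choose_spec⟩
    | inv u _ hu =>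
      obtain ⟨M, hM⟩ := hu
      have hp : ∀ n : ℕ, Mat (u ^ n) (M ^ n) := by
        intro n
        induction n with
        | zero => simpa using hone
        | succ n ih => rw [pow_succ, pow_succ]; exact hmul _ _ _ _ ih hM
      have h1 : u⁻¹ = u ^ (orderOf u - 1) := by
        apply inv_eq_of_mul_eq_one_left
        rw [← pow_succ, Nat.sub_add_cancel (orderOf_pos u), pow_orderOf_eq_one]
      exact ⟨_, h1 ▸ hp _⟩
  choose f hf using hall
  refine ⟨(ZMod p)[X] ⧸ P, inferInstance, inferInstance, lam,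
    MonoidHom.mk' f fun k l => huniq _ _ _ (hf _) (hmul _ _ _ _ (hf k) (hf l)), W, ψ, hyW, hlam0,
    huniq _ _ _ (hf x) hxM, huniq _ _ _ (hf b) hbM, ?_, hsurj, fun k z => ⟨_, hf k z⟩⟩
  have e : (⟨y, hyW⟩ : W) = ⟨Φ (1, 0), ⟨_, rfl⟩⟩ := Subtype.ext (by show y = Φ (1, 0); rw [hΦ]; simp)
  rw [e]
  erw [hψ]
  show (π 1, lam * π 0) = _
  simp

end Plane

end CfsgLib.ZJFail

namespace CfsgLib.ZJFail

open CfsgLib.ZJ
open scoped Classical

variable {p : ℕ} [Fact p.Prime]

/-- The diagonal matrix with entries `a`, `a⁻¹`. -/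
def diag2 {F : Type*} [Field F] (a : F) (ha : a ≠ 0) : SL2 F :=
  ⟨!![a, 0; 0, a⁻¹], by simp [Matrix.det_fin_two, ha]⟩

@[simp] theorem diag2_00 {F : Type*} [Field F] (a : F) (ha : a ≠ 0) : diag2 a ha 0 0 = a := rfl
@[simp] theorem diag2_01 {F : Type*} [Field F] (a : F) (ha : a ≠ 0) : diag2 a ha 0 1 = 0 := rfl
@[simp] theorem diag2_10 {F : Type*} [Field F] (a : F) (ha : a ≠ 0) : diag2 a ha 1 0 = 0 := rfl
@[simp] theorem diag2_11 {F : Type*} [Field F] (a : F) (ha : a ≠ 0) : diag2 a ha 1 1 = a⁻¹ := rfl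

variable {F : Type*} [Field F]

theorem sl2_map_entry {R R' : Type*} [CommRing R] [CommRing R'] (f : R →+* R')
    (M : Matrix.SpecialLinearGroup (Fin 2) R) (i j : Fin 2) :
    Matrix.SpecialLinearGroup.map f M i j = f (M i j) := rfl

theorem pow_upperTri (M : SL2 F) (h : M 1 0 = 0) (n : ℕ) :
    (M ^ n : SL2 F) 1 0 = 0 ∧ (M ^ n : SL2 F) 0 0 = (M 0 0) ^ n ∧ (M ^ n : SL2 F) 1 1 = (M 1 1) ^ n := by
  induction n with
  | zero => simp
  | succ n ih => simp [pow_succ, sl2_mul, ih, h]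

theorem pow_scalarTri (M : SL2 F) (h : M 1 0 = 0) (he : M 1 1 = M 0 0) (n : ℕ) :
    (M ^ n : SL2 F) 0 1 = n * (M 0 0) ^ (n - 1) * M 0 1 := by
  induction n with
  | zero => simp
  | succ n ih =>
    rw [pow_succ, sl2_mul, ih, (pow_upperTri M h n).2.1, he, Nat.succ_sub_one]
    cases n with
    | zero => simp
    | succ m => rw [Nat.succ_sub_one, pow_succ]; push_cast; ring

/-- A finite p-group of matrices containing an upper transvection is upper unitriangular. -/
theorem upper_of_pGroup [CharP F p] (hp : p ≠ 2) {S : Type*} [Group S] [Finite S] (hS : IsPGroup p S)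
    (φ : S →* SL2 F) {s0 : S} (hs0 : φ s0 = upper 1) (g : S) :
    φ g 1 0 = 0 ∧ φ g 0 0 = 1 ∧ φ g 1 1 = 1 := by
  have h2 : (2 : F) ≠ 0 := by
    intro h
    have h' : ((2 : ℕ) : F) = 0 := by exact_mod_cast h
    exact hp ((Nat.prime_dvd_prime_iff_eq (Fact.out : p.Prime) Nat.prime_two).mp
      ((CharP.cast_eq_zero_iff F p 2).mp h'))
  have hpo : p ^ 1 ≠ 0 := pow_ne_zero _ (Fact.out : p.Prime).ne_zero
  haveI : Finite φ.range := Set.Finite.to_subtype (Set.finite_range φ)
  have hR : IsPGroup p φ.range := hS.of_surjective φ.rangeRestrict φ.rangeRestrict_surjective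
  haveI : Nontrivial φ.range := ⟨⟨upper 1, s0, hs0⟩, 1, fun h => by
    have := congrArg (fun m : φ.range => (m : SL2 F) 0 1) h
    simp at this⟩
  have : Nontrivial (Subgroup.center φ.range) := hR.center_nontrivial
  obtain ⟨⟨⟨z, hz⟩, hzc⟩, hz1⟩ := exists_ne (1 : Subgroup.center φ.range)
  have comm : ∀ m ∈ φ.range, m * z = z * m := fun m hm =>
    congrArg Subtype.val (Subgroup.mem_center_iff.mp hzc ⟨m, hm⟩)
  -- `z` commutes with the transvection
  have e : ∀ i j, (upper (1 : F) * z : SL2 F) i j = (z * upper (1 : F) : SL2 F) i j := fun i j => by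
    rw [comm _ ⟨s0, hs0⟩]
  have z10 : z 1 0 = 0 := by simpa [sl2_mul] using e 0 0
  have z00 : z 1 1 = z 0 0 := by
    have := e 0 1
    simp [sl2_mul] at this
    linear_combination this
  have hone : ∀ m ∈ φ.range, m 1 0 = 0 → m 1 1 = m 0 0 → m 0 0 = 1 := by
    intro m hm h10 he
    obtain ⟨k, hk⟩ := hR ⟨m, hm⟩
    have hk' : m ^ p ^ k = 1 := congrArg Subtype.val hk
    have h1 := (pow_upperTri m h10 (p ^ k)).2.1
    rw [hk'] at h1
    simp at h1
    have hd := sl2_det m
    rw [h10, he, mul_zero, sub_zero] at hd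
    have h4 : (m 0 0 - 1) * (m 0 0 + 1) = 0 := by linear_combination hd
    rcases mul_eq_zero.mp h4 with h5 | h5
    · exact sub_eq_zero.mp h5
    · rw [eq_neg_of_add_eq_zero_left h5, ((Fact.out : p.Prime).odd_of_ne_two hp).pow.neg_one_pow] at h1
      exact absurd (by linear_combination h1 : (2 : F) = 0) h2
  have zone := hone z hz z10 z00
  have z01 : z 0 1 ≠ 0 := by
    intro h0
    apply hz1
    apply Subtype.ext
    apply Subtype.ext
    exact sl2_ext (by simpa using zone) (by simpa using h0) (by simpa using z10)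
      (by simpa using z00.trans zone)
  have e' : ∀ i j, (φ g * z : SL2 F) i j = (z * φ g : SL2 F) i j := fun i j => by rw [comm _ ⟨g, rfl⟩]
  have g10 : φ g 1 0 = 0 := by
    have := e' 1 1
    simp [sl2_mul, z10, z00, zone] at this
    exact this.resolve_right z01
  have g11 : φ g 1 1 = φ g 0 0 := by
    have := e' 0 1
    simp [sl2_mul, z10, z00, zone] at this
    have h3 : z 0 1 * (φ g 1 1 - φ g 0 0) = 0 := by linear_combination -this
    exact sub_eq_zero.mp ((mul_eq_zero.mp h3).resolve_left z01)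
  have g00 := hone _ ⟨g, rfl⟩ g10 g11
  exact ⟨g10, g00, g11.trans g00⟩

/-- A conjugate of `SL₂(p)` in the image of two quadratic elements. -/
theorem exists_sl2_le [CharP F p] (hp : p ≠ 2) {K : Type*} [Group K] [Finite K] (φ : K →* SL2 F)
    {x b : K} {lam : F} (hlam : lam ≠ 0) (hx : φ x = upper 1) (hb : φ b = lower lam) :
    ∃ t : F, ∀ M : SL2 (ZMod p), ∃ k, φ k =
      upper t * Matrix.SpecialLinearGroup.map (ZMod.castHom dvd_rfl F) M * (upper t)⁻¹ := by
  let L : Subgroup (SL2 F) :=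
    { carrier := {M | ∃ x, M = φ x ∨ M = -φ x}
      one_mem' := ⟨1, Or.inl (map_one φ).symm⟩
      mul_mem' := by
        rintro M N ⟨x, hx⟩ ⟨y, hy⟩
        refine ⟨x * y, ?_⟩
        rw [map_mul]
        rcases hx with rfl | rfl <;> rcases hy with rfl | rfl <;> simp
      inv_mem' := by
        rintro M ⟨x, hx⟩
        refine ⟨x⁻¹, ?_⟩
        rw [map_inv]
        rcases hx with rfl | rfl
        · exact Or.inl rfl
        · exact Or.inr (inv_eq_of_mul_eq_one_right (by simp)) }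
  have : Finite L := Set.Finite.to_subtype (by
    refine Set.Finite.subset ((Set.finite_range φ).union (Set.finite_range fun x => -φ x)) ?_
    rintro M ⟨x, hx | hx⟩
    · exact Or.inl ⟨x, hx.symm⟩
    · exact Or.inr ⟨x, hx.symm⟩)
  obtain ⟨t, k, hk⟩ := SL2Count.exists_conj_lower (L := L) (p := p) hp
    ⟨1, Or.inr (by simp)⟩ ⟨x, Or.inl hx.symm⟩ ⟨lower lam, ⟨b, Or.inl hb.symm⟩⟩
    (by simpa [SL2Count.ent] using hlam)
  have hl : ∃ k, φ k = upper t * lower 1 * (upper t)⁻¹ := by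
    rcases hk with hk | hk
    · exact ⟨k, hk.symm⟩
    refine ⟨k ^ p * k, ?_⟩
    have hk' : φ k = -(upper t * lower 1 * (upper t)⁻¹) := by rw [hk, neg_neg]
    have hpp : φ (k ^ p) = -1 := by
      rw [map_pow, hk', ((Fact.out : p.Prime).odd_of_ne_two hp).neg_pow, conj_pow, lower_pow,
        CharP.cast_eq_zero F p, zero_mul, lower_zero, mul_one, mul_inv_cancel]
    rw [map_mul, hpp, hk', neg_one_mul, neg_neg]
  let ι : SL2 (ZMod p) →* SL2 F := Matrix.SpecialLinearGroup.map (ZMod.castHom dvd_rfl F)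
  let conjT : SL2 F →* SL2 F := (MulAut.conj (upper t)).toMonoidHom
  have htop : φ.range.comap (conjT.comp ι) = ⊤ := by
    apply sl2_zmod_generated
    · refine ⟨x, ?_⟩
      have e : ι (upper 1) = upper 1 := by
        apply sl2_ext <;> first | exact map_one (ZMod.castHom dvd_rfl F) | exact map_zero (ZMod.castHom dvd_rfl F)
      rw [MonoidHom.comp_apply, e, hx]
      show upper 1 = upper t * upper 1 * (upper t)⁻¹
      rw [upper_mul, upper_inv, upper_mul]
      congr 1
      ring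
    · obtain ⟨k, hk⟩ := hl
      refine ⟨k, ?_⟩
      have e : ι (lower 1) = lower 1 := by
        apply sl2_ext <;> first | exact map_one (ZMod.castHom dvd_rfl F) | exact map_zero (ZMod.castHom dvd_rfl F)
      rw [MonoidHom.comp_apply, e, hk]
      rfl
  exact ⟨t, fun M => (htop ▸ Subgroup.mem_top M : M ∈ φ.range.comap (conjT.comp ι))⟩

variable {V : Type*} [AddCommGroup V] [Module (ZMod p) V] [Finite V]
  {K : Type*} [Group K] [Finite K]

/-- A torus element normalizing a given Sylow subgroup, with its eigenvectors modulo an invariant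
subspace. -/
theorem exists_torus (hp : p ≠ 2) (ρ : K →* Module.End (ZMod p) V) (x b : K)
    (hgen : Subgroup.closure {x, b} = ⊤) (hx : (ρ x - 1) * (ρ x - 1) = 0)
    (hb : (ρ b - 1) * (ρ b - 1) = 0) (y : V) (hy : ρ x y = y)
    (hnu : ¬ ∀ g : K, ∃ j, ∀ k : K, ρ (g ^ p ^ j) (ρ k y) = ρ k y)
    (S : Sylow p K) (hxS : x ∈ (S : Subgroup K)) (α : (ZMod p)ˣ) :
    ∃ (W X' : AddSubgroup V) (w : V) (τ : K), τ ∈ Subgroup.normalizer ((S : Subgroup K) : Set K) ∧
      X' ≤ W ∧ y ∈ W ∧ w ∈ W ∧ (∀ k, ∀ z ∈ W, ρ k z ∈ W) ∧ (∀ k, ∀ z ∈ X', ρ k z ∈ X') ∧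
      (∀ s t : ZMod p, s • y + t • w ∈ X' → s = 0 ∧ t = 0) ∧
      ρ x w - (w + y) ∈ X' ∧ ρ τ y - (α : ZMod p) • y ∈ X' ∧
      ρ τ w - ((α⁻¹ : (ZMod p)ˣ) : ZMod p) • w ∈ X' := by
  obtain ⟨F, _, _, lam, φ, W, ψ, hyW, hlam, hφx, hφb, hψy, hsurj, hψ⟩ :=
    exists_field_plane ρ x b hgen hx hb y hy hnu
  obtain ⟨t, ht⟩ := exists_sl2_le hp φ hlam hφx hφb
  let c : ZMod p →+* F := ZMod.castHom dvd_rfl F
  set a : F := c α with ha
  have ha0 : a ≠ 0 := fun h => α.ne_zero (c.injective (h.trans (map_zero c).symm))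
  have hainv : c ((α⁻¹ : (ZMod p)ˣ) : ZMod p) = a⁻¹ :=
    eq_inv_of_mul_eq_one_left (by rw [ha, ← map_mul, Units.inv_mul, map_one])
  have hap : a ^ p = a := by rw [ha, ← map_pow, ZMod.pow_card]
  -- an element acting as the torus
  obtain ⟨g0, hg0⟩ := ht (diag2 (α : ZMod p) α.ne_zero)
  have hg : φ g0 1 0 = 0 ∧ φ g0 0 0 = a ∧ φ g0 1 1 = a⁻¹ := by
    set D := Matrix.SpecialLinearGroup.map (ZMod.castHom dvd_rfl F)
      (diag2 (α : ZMod p) α.ne_zero) with hD
    have d00 : D 0 0 = a := rfl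
    have d01 : D 0 1 = 0 := map_zero c
    have d10 : D 1 0 = 0 := map_zero c
    have d11 : D 1 1 = a⁻¹ := map_inv₀ c _
    rw [hg0, upper_inv]
    simp [sl2_mul, d00, d01, d10, d11]
  -- Frattini in the triangular elements
  let H1 : Subgroup K :=
    { carrier := {k | φ k 1 0 = 0}
      one_mem' := by simp
      mul_mem' := fun {k l} (hk : φ k 1 0 = 0) (hl : φ l 1 0 = 0) =>
        show φ (k * l) 1 0 = 0 by rw [map_mul, sl2_mul, hk, hl, zero_mul, mul_zero, add_zero]
      inv_mem' := fun {k} (hk : φ k 1 0 = 0) =>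
        show φ k⁻¹ 1 0 = 0 by rw [map_inv, (sl2_inv _).2.2.1, hk, neg_zero] }
  let H2 : Subgroup H1 :=
    { carrier := {k | φ (k : K) 0 0 = 1}
      one_mem' := by simp
      mul_mem' := fun {k l} (hk : φ k 0 0 = 1) (hl : φ (l : K) 0 0 = 1) =>
        show φ ((k : K) * l) 0 0 = 1 by
          rw [map_mul, sl2_mul, hk, hl, show φ (l : K) 1 0 = 0 from l.2, mul_zero, add_zero, mul_one]
      inv_mem' := fun {k} (hk : φ (k : K) 0 0 = 1) =>
        show φ (k : K)⁻¹ 0 0 = 1 by
          have hd := sl2_det (φ (k : K))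
          rw [hk, show φ (k : K) 1 0 = 0 from k.2] at hd
          rw [map_inv, (sl2_inv _).1]
          linear_combination hd }
  haveI : H2.Normal := by
    refine ⟨fun n (hn : φ (n : K) 0 0 = 1) g => ?_⟩
    show φ ((g : K) * n * (g : K)⁻¹) 0 0 = 1
    have hd := sl2_det (φ (g : K))
    rw [show φ (g : K) 1 0 = 0 from g.2] at hd
    rw [map_mul, map_mul, map_inv, sl2_mul, sl2_mul, sl2_mul, (sl2_inv _).1, (sl2_inv _).2.2.1,
      show φ (g : K) 1 0 = 0 from g.2, hn, show φ (n : K) 1 0 = 0 from n.2]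
    linear_combination hd
  have hS := upper_of_pGroup (F := F) hp S.2 (φ.comp (S : Subgroup K).subtype) (s0 := ⟨x, hxS⟩) hφx
  have hSH1 : (S : Subgroup K) ≤ H1 := fun s hs => (hS ⟨s, hs⟩).1
  let S1 : Sylow p H1 := S.subtype hSH1
  have hS12 : (S1 : Subgroup H1) ≤ H2 := fun s hs => (hS ⟨s, hs⟩).2.1
  let S2 : Sylow p H2 := S1.subtype hS12
  have hfr : Subgroup.normalizer ((S1 : Subgroup H1) : Set H1) ⊔ H2 = ⊤ := by
    have := Sylow.normalizer_sup_eq_top S2
    rwa [show (S2 : Subgroup H2).map H2.subtype = (S1 : Subgroup H1) from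
      Subgroup.map_subgroupOf_eq_of_le hS12] at this
  obtain ⟨n, hn, u, hu, hnu'⟩ := Subgroup.mem_sup_of_normal_right.mp
    (hfr ▸ Subgroup.mem_top (⟨g0, hg.1⟩ : H1))
  have hnS : (n : K) ∈ Subgroup.normalizer ((S : Subgroup K) : Set K) := by
    have h := Subgroup.le_normalizer_map H1.subtype (Subgroup.mem_map_of_mem H1.subtype hn)
    rwa [show (S1 : Subgroup H1).map H1.subtype = (S : Subgroup K) from
      Subgroup.map_subgroupOf_eq_of_le hSH1] at h
  have hn00 : φ (n : K) 0 0 = a := by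
    have h := congrArg (fun k : H1 => φ (k : K) 0 0) hnu'
    simp only [Subgroup.coe_mul, map_mul, sl2_mul, show φ (u : K) 0 0 = 1 from hu,
      show φ (u : K) 1 0 = 0 from u.2, mul_one, mul_zero, add_zero, hg.2.1] at h
    exact h
  have hn11 : φ (n : K) 1 1 = a⁻¹ := by
    have hd := sl2_det (φ (n : K))
    rw [hn00, show φ (n : K) 1 0 = 0 from n.2, mul_zero, sub_zero] at hd
    exact eq_inv_of_mul_eq_one_left (by linear_combination hd)
  set τ := (n : K) ^ p with hτ
  have hτM : φ τ 1 0 = 0 ∧ φ τ 0 0 = a ∧ φ τ 1 1 = a⁻¹ := by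
    rw [hτ, map_pow]
    obtain ⟨h1, h2, h3⟩ := pow_upperTri (φ (n : K)) n.2 p
    rw [hn00, hap] at h2
    rw [hn11, inv_pow, hap] at h3
    exact ⟨h1, h2, h3⟩
  obtain ⟨r, hr⟩ : ∃ r : F, a * r + φ τ 0 1 = a⁻¹ * r := by
    by_cases h : a⁻¹ = a
    · refine ⟨0, ?_⟩
      rw [hτ, map_pow, pow_scalarTri _ n.2 (by rw [hn11, hn00, h]), CharP.cast_eq_zero F p]
      simp
    · refine ⟨φ τ 0 1 / (a⁻¹ - a), ?_⟩
      have : a⁻¹ - a ≠ 0 := sub_ne_zero.mpr h
      have := div_mul_cancel₀ (φ τ 0 1) this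
      linear_combination -this
  obtain ⟨w, hw⟩ := hsurj (r, 1)
  let X' : AddSubgroup V := ψ.ker.map W.toAddSubgroup.subtype
  have hmemX : ∀ z (hz : z ∈ W), z ∈ X' ↔ ψ ⟨z, hz⟩ = 0 := by
    intro z hz
    constructor
    · rintro ⟨u, hu, rfl⟩
      exact hu
    · exact fun h => ⟨⟨z, hz⟩, h, rfl⟩
  have hsmul : ∀ (s : ZMod p) (z : W), ψ (s • z) = (c s * (ψ z).1, c s * (ψ z).2) := by
    intro s z
    rw [← ZMod.natCast_zmod_val s, Nat.cast_smul_eq_nsmul, map_nsmul, map_natCast]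
    simp [Prod.ext_iff]
  have hact : ∀ (k : K) (z : W), ∃ h : ρ k z ∈ W, ψ ⟨ρ k z, h⟩ =
      (φ k 0 0 * (ψ z).1 + φ k 0 1 * (ψ z).2, φ k 1 0 * (ψ z).1 + φ k 1 1 * (ψ z).2) := hψ
  refine ⟨W.toAddSubgroup, X', (w : V), τ, pow_mem hnS p, ?_, hyW, w.2, fun k z hz => (hψ k ⟨z, hz⟩).1,
    ?_, ?_, ?_, ?_, ?_⟩
  · rintro _ ⟨u, -, rfl⟩; exact u.2
  · rintro k _ ⟨u, hu, rfl⟩
    obtain ⟨h, he⟩ := hψ k u
    refine (hmemX _ h).mpr ?_
    rw [he, show ψ u = 0 from hu]
    simp
  · intro s u hsu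
    have h1 := (hmemX _ (W.add_mem (W.smul_mem s hyW) (W.smul_mem u w.2))).mp hsu
    rw [show (⟨s • y + u • (w : V), _⟩ : W) = s • ⟨y, hyW⟩ + u • w from rfl, map_add, hsmul, hsmul,
      hψy, hw] at h1
    simp at h1
    obtain ⟨h2, hu⟩ := h1
    subst hu
    simp at h2
    exact ⟨h2, rfl⟩
  · obtain ⟨h, he⟩ := hψ x w
    refine (hmemX _ (W.sub_mem h (W.add_mem w.2 hyW))).mpr ?_
    rw [show (⟨ρ x (w : V) - ((w : V) + y), _⟩ : W) = ⟨ρ x (w : V), h⟩ - (w + ⟨y, hyW⟩) from rfl,
      map_sub, map_add, he, hψy, hw, hφx]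
    simp
  · obtain ⟨h, he⟩ := hψ τ ⟨y, hyW⟩
    refine (hmemX _ (W.sub_mem h (W.smul_mem _ hyW))).mpr ?_
    rw [show (⟨ρ τ y - (α : ZMod p) • y, _⟩ : W) = ⟨ρ τ y, h⟩ - (α : ZMod p) • ⟨y, hyW⟩ from rfl,
      map_sub, hsmul, he, hψy, hτM.1, hτM.2.1]
    simp [ha]
  · obtain ⟨h, he⟩ := hψ τ w
    refine (hmemX _ (W.sub_mem h (W.smul_mem _ w.2))).mpr ?_
    rw [show (⟨ρ τ (w : V) - ((α⁻¹ : (ZMod p)ˣ) : ZMod p) • (w : V), _⟩ : W) =
        ⟨ρ τ (w : V), h⟩ - ((α⁻¹ : (ZMod p)ˣ) : ZMod p) • w from rfl,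
      map_sub, hsmul, he, hw, hτM.1, hτM.2.1, hτM.2.2, hainv]
    simp [hr]

end CfsgLib.ZJFail
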