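import Cfsg.Agent.ZJFail.Key

/-!
The analysis of a local subgroup with unfused elements.
-/

set_option autoImplicit false
set_option linter.style.haveILetI false

namespace CfsgLib.ZJFail

open Subgroup CfsgLib.ZJ CfsgLib.Functor
open scoped CfsgLib.Functor commutatorElement

variable {G : Type*} [Group G] [Finite G] {p : ℕ} [Fact p.Prime]

/-- A minimal counterexample whose p-core `E` is not the whole obstruction. -/
structure Setting (S : Sylow p G) (Z E : Subgroup G) : Prop where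
  hE : E.Normal
  hEp : IsPGroup p E
  hES : E ≤ S
  hZS : Z ≤ S
  hSH : (S : Subgroup G) ≤ normalizer (Z : Set G)
  hNS : normalizer ((S : Subgroup G) : Set G) ≤ normalizer (Z : Set G)
  hZc : ∀ u ∈ Z, ∀ v ∈ Z, u * v = v * u
  hcoreE : ∀ N : Subgroup G, N.Normal → IsPGroup p N → N ≤ E
  hE0 : (Z ⊓ E).Normal
  hZE : ¬ Z ≤ E
  hsub : ∀ M : Subgroup G, M ≠ ⊤ → (S : Subgroup G) ≤ M → ∀ (A : Subgroup G) (g : G), g ∈ M →
    A ≤ S → g ⋆ A ≤ S → Fused (normalizer (Z : Set G)) A g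

variable {S : Sylow p G} {Z E : Subgroup G}

/-- A central element modulo `E` in `Z` outside `E`. -/
theorem Setting.exists_central (C : Setting S Z E) :
    ∃ z ∈ Z, z ∉ E ∧ ∀ s ∈ (S : Subgroup G), ⁅z, s⁆ ∈ E := by
  haveI := C.hE
  obtain ⟨z, hz, hz0, hzS⟩ := exists_fixed S.2 C.hZS C.hES C.hSH
    (by rw [normalizer_eq_top (H := E)]; exact le_top) C.hZE
  exact ⟨z, hz, hz0, fun s hs => by rw [← commutatorElement_inv]; exact inv_mem (hzS s hs)⟩

/-- If `M` normalizes `Z ∩ P` then its elements are fused on `P`, given that `P` is the whole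
intersection of its Sylow subgroup with the kernel. -/
theorem Setting.fused_of_normalizes (C : Setting S Z E) {M T P K : Subgroup G} (hTS : T ≤ S)
    (hPT : P ≤ T) (hTM : T ≤ M) (hMP : M ≤ normalizer (P : Set G))
    (hU : M ≤ normalizer ((Z ⊓ P : Subgroup G) : Set G))
    (hNT : (S : Subgroup G) ⊓ normalizer (P : Set G) ≤ T)
    (hK : ∀ N : Subgroup G, N ≤ M → M ≤ normalizer (N : Set G) →
        (∀ x ∈ N, ∃ k, x ^ p ^ k ∈ centralizer (P : Set G)) → N ≤ K)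
    (hTK : T ⊓ K ≤ P) : M ≤ normalizer (Z : Set G) := by
  suffices hZP : Z ≤ P by rwa [inf_eq_left.mpr hZP] at hU
  have hPS : P ≤ (S : Subgroup G) := hPT.trans hTS
  by_contra hZP
  have hlt : P < Z ⊔ P := lt_of_le_of_ne le_sup_right fun he => hZP (le_sup_left.trans he.ge)
  have hlt2 := lt_inf_normalizer (S.2.to_le (sup_le C.hZS hPS)) hlt
  obtain ⟨x, hx, hxP⟩ := SetLike.exists_of_lt hlt2
  obtain ⟨u, hu, z, hz, hxe⟩ :=
    (Solvable.mem_sup_of_le_normalizer (hPS.trans C.hSH)).mp (by rw [sup_comm]; exact hx.1)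
  have hzN : z ∈ normalizer (P : Set G) := by
    rw [show z = u⁻¹ * x by rw [← hxe]; group]
    exact mul_mem (inv_mem (le_normalizer hu)) hx.2
  have hzT : z ∈ T := hNT ⟨C.hZS hz, hzN⟩
  refine hxP (hxe ▸ mul_mem hu (hTK ⟨hzT, ?_⟩))
  refine mem_of_stabilizes (U := Z ⊓ P) hMP hU (S.2.to_le (inf_le_left.trans C.hZS)) hK (hTM hzT)
    (mem_centralizer_iff.mpr fun v hv => C.hZc v hv.1 z hz) fun v hv => ⟨?_, ?_⟩
  · rw [commutatorElement_def, show z * v * z⁻¹ * v⁻¹ = z * (v * z⁻¹ * v⁻¹) by group]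
    exact Z.mul_mem hz ((mem_normalizer_iff.mp (C.hSH (hPS hv)) _).mp (Z.inv_mem hz))
  · rw [commutatorElement_def]
    exact P.mul_mem ((mem_normalizer_iff.mp hzN v).mp hv) (P.inv_mem hv)

/-- The conclusion from a local subgroup with an unfused element. -/
theorem Setting.concl_local (C : Setting S Z E) (hp : p ≠ 2) {R : Subgroup G}
    (hbig : ∀ (A : Subgroup G) (g : G), A ≤ S → g ⋆ A ≤ S → E ≤ A → key E R < key E A →
      Fused (normalizer (Z : Set G)) A g)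
    {M T P : Subgroup G} (hT : IsSylowIn p T M) (hTS : T ≤ S) (hMP : M ≤ normalizer (P : Set G))
    (hEP : E ≤ P) (hPT : P ≤ T) (hd : dmod E P = dmod E R) (hJ : Jmod E P = Jmod E R)
    (hJT : Jmod E T ≠ Jmod E R)
    (hg : ∃ g ∈ M, ¬ Fused (normalizer (Z : Set G)) P g)
    (hNT : ∀ P' : Subgroup G, P ≤ P' → P' ≤ T → key E P' ≤ key E R →
      (S : Subgroup G) ⊓ normalizer (P' : Set G) ≤ T) : Concl p (normalizer (Z : Set G)) Z := by
  haveI := C.hE
  set H := normalizer (Z : Set G) with hH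
  -- a minimal subgroup with unfused elements
  obtain ⟨M', ⟨hTM', hM'M, P', hPP', hP'T, hM'P', g, hg', hgn⟩, hmin⟩ := Set.exists_min_image
    {M' : Subgroup G | T ≤ M' ∧ M' ≤ M ∧ ∃ P' : Subgroup G, P ≤ P' ∧ P' ≤ T ∧
      M' ≤ normalizer (P' : Set G) ∧ ∃ g ∈ M', ¬ Fused H P' g}
    (fun M' => Nat.card M') (Set.toFinite _) ⟨M, hT.le, le_rfl, P, le_rfl, hPT, hMP, hg⟩
  have hT' : IsSylowIn p T M' := hT.of_le hTM' hM'M
  -- the p-core of `M'`
  set Q := (Cfsg.pCore p M').map M'.subtype with hQ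
  have hQmax : ∀ N : Subgroup G, N ≤ M' → M' ≤ normalizer (N : Set G) → IsPGroup p N → N ≤ Q := by
    intro N hN hMN hNp x hx
    refine ⟨⟨x, hN hx⟩, Solvable.le_pCore p (normal_subgroupOf_of_le_normalizer hMN)
      (hNp.of_equiv (subgroupOfEquivOfLe hN).symm) (mem_subgroupOf.mpr hx), rfl⟩
  have hMQ : M' ≤ normalizer (Q : Set G) := by
    refine le_trans ?_ (le_normalizer_map M'.subtype)
    haveI : (Cfsg.pCore p M').Normal := Solvable.pCore_normal p
    rw [normalizer_eq_top (H := Cfsg.pCore p M'), ← MonoidHom.range_eq_map, range_subtype]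
  have hQp : IsPGroup p Q := (Solvable.isPGroup_pCore p).map _
  have hQT : Q ≤ T := by
    obtain ⟨n, hn, hle⟩ := hT'.exists_cj_le hQp (map_subtype_le _)
    rwa [mem_normalizer_iff_cj.mp (hMQ hn)] at hle
  have hP'Q : P' ≤ Q := hQmax P' (hP'T.trans hTM') hM'P' (hT.isPGroup.to_le hP'T)
  have hgQ : ¬ Fused H Q g := fun h => hgn (h.mono hP'Q)
  have hPQ : P ≤ Q := hPP'.trans hP'Q
  have hEQ : E ≤ Q := hEP.trans hPQ
  have hQS : Q ≤ (S : Subgroup G) := hQT.trans hTS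
  have hkey : key E Q ≤ key E R := le_of_not_gt fun hlt =>
    hgQ (hbig Q g hQS (by rw [mem_normalizer_iff_cj.mp (hMQ hg')]; exact hQS) hEQ hlt)
  have hJQ : Jmod E Q = Jmod E R := by_contra fun hne =>
    (key_lt_of_Jmod_ne hEP hPQ hd hJ hne).not_ge hkey
  have hNQ := hNT Q hPQ hQT hkey
  have hfus : ∀ L : Subgroup G, T ≤ L → L ≤ M' → L ≠ M' →
      L ≤ normalizer ((Z ⊓ Q : Subgroup G) : Set G) ∧ ∀ l ∈ L, Fused H Q l := by
    intro L hTL hLM hne
    have hall : ∀ l ∈ L, Fused H Q l := fun l hl => by_contra fun hln =>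
      (hmin L ⟨hTL, hLM.trans hM'M, Q, hPQ, hQT, hLM.trans hMQ, l, hl, hln⟩).not_gt
        (Solvable.card_lt_of_lt (lt_of_le_of_ne hLM hne))
    exact ⟨fun l hl => mem_normalizer_inf_of_fused (hMQ (hLM hl)) (hall l hl), hall⟩
  -- the kernel meets `T` in `Q`
  obtain ⟨K, hKM, hMK, hKp, hKmax⟩ := exists_modKer (p := p) hMQ
  have hTK : T ⊓ K ≤ Q := by
    by_cases h : M' ⊓ normalizer ((T ⊓ K : Subgroup G) : Set G) = M'
    · exact hQmax _ (inf_le_left.trans hTM') (inf_eq_left.mp h) (hT.isPGroup.to_le inf_le_left)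
    exfalso
    apply hgQ
    obtain ⟨c, hc, e, he, rfl⟩ := exists_frattini hT' hKM hMK hMQ hKp hg'
    refine fused_mul_left (hMQ he.1) hc.2 ((hfus _ (le_inf hTM' ?_) inf_le_left h).2 e he)
    exact (le_inf le_normalizer (hTM'.trans hMK)).trans normalizer_inf_le
  have hU : ¬ M' ≤ normalizer ((Z ⊓ Q : Subgroup G) : Set G) := fun hle =>
    hgQ (Fused.of_mem (C.fused_of_normalizes hTS hQT hTM' hMQ hle hNQ hKmax hTK hg'))
  -- the central elements of `Z` modulo `E`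
  obtain ⟨z0, hz0, hz0E, hz0c⟩ := C.exists_central
  have hEn : ∀ L : Subgroup G, L ≤ normalizer (E : Set G) := fun L => by
    rw [normalizer_eq_top (H := E)]; exact le_top
  have hE0n : M' ≤ normalizer ((Z ⊓ E : Subgroup G) : Set G) := by
    haveI := C.hE0
    rw [normalizer_eq_top (H := Z ⊓ E)]; exact le_top
  have hzP : ∀ z ∈ Z, (∀ s ∈ (S : Subgroup G), ⁅z, s⁆ ∈ E) → z ∈ Q := by
    intro z hz hzc
    have hzN : z ∈ normalizer (Q : Set G) := by
      refine mem_normalizer_iff_cj.mpr (eq_of_le_of_card_le' (cj_le_iff.mpr fun u hu => ?_) (card_cj z _).ge)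
      rw [show z * u * z⁻¹ = ⁅z, u⁆ * u by simp only [commutatorElement_def]; group]
      exact mul_mem (hEQ (hzc u (hQS hu))) hu
    have hzT : z ∈ T := hNQ ⟨C.hZS hz, hzN⟩
    refine hTK ⟨hzT, mem_of_stabilizes hMQ hE0n (C.hEp.to_le inf_le_right) hKmax (hTM' hzT)
      (mem_centralizer_iff.mpr fun v hv => C.hZc v hv.1 z hz) fun u hu => ⟨?_, hzc u (hQS hu)⟩⟩
    rw [commutatorElement_def, show z * u * z⁻¹ * u⁻¹ = z * (u * z⁻¹ * u⁻¹) by group]
    exact Z.mul_mem hz ((mem_normalizer_iff.mp (C.hSH (hQS hu)) _).mp (Z.inv_mem hz))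
  have hzW : ∀ z ∈ Z, (∀ s ∈ (S : Subgroup G), ⁅z, s⁆ ∈ E) → z ∈ Wmod E Q := fun z hz hzc =>
    mem_sInf.mpr fun A hA => mem_member hA (hzP z hz hzc) fun a ha => hzc a (hQS (hA.2.1 ha))
  -- members of `T` normalized by the subgroups of `W`
  set W := Wmod E Q with hW
  have hEW : E ≤ W := le_Wmod
  have hWQ : W ≤ Q := Wmod_le hEQ
  have hMW : M' ≤ normalizer (W : Set G) := hMQ.trans normalizer_le_Wmod
  have hA : ∀ B : Subgroup G, E ≤ B → B ≤ W → M' ≤ normalizer (B : Set G) →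
      ∃ A ∈ fam (Mem E) T, ¬ A ≤ Q ∧ B ≤ normalizer (A : Set G) := by
    intro B hEB hBW hMB
    refine exists_normalized_member hp hT.isPGroup hEB ((hBW.trans hWQ).trans hQT) (hTM'.trans hMB)
      (fun A hA a ha b hb => hA.1.1 (Wmod_comm hEQ (hBW ha) (hBW hb))) ?_ fun A hA hAQ => ?_
    · by_contra hc
      push Not at hc
      have := fam_eq_of_le (hEQ.trans hQT) hQT (sSup_le hc)
      exact hJT (by rw [← hJQ, Jmod, Jmod, this])
    · exact hBW.trans (sInf_le ⟨hA.1, hAQ, fun D hD hDQ => hA.2.2 D hD (hDQ.trans hQT)⟩)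
  by_cases hWn : M' ≤ normalizer (((W ⊓ Z) ⊔ E : Subgroup G) : Set G)
  swap
  · obtain ⟨B, hEB, hBW, hMB, hn, hmin'⟩ := exists_minimal hEW hMW hWn
    exact concl_of_minimal hp S.2 C.hSH C.hSH C.hZc C.hE hT' hTS hQT hMQ hU hfus
      (fun N h1 h2 h3 => hQmax N h1 h2 h3) (hBW.trans hWQ) hMB hEB hn hmin' (hA B hEB hBW hMB)
  -- the normal case
  set B1 := (W ⊓ Z) ⊔ E with hB1
  have hB1W : B1 ≤ W := sup_le inf_le_left hEW
  have hQB1 : B1 ≤ normalizer (Q : Set G) := (hB1W.trans hWQ).trans le_normalizer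
  set B := cK B1 Q E hQB1 (hEn B1) with hB
  have hBB1 : B ≤ B1 := fun b hb => hb.1
  have hMB : M' ≤ normalizer (B : Set G) := by
    intro m hm
    refine mem_normalizer_iff_cj.mpr (eq_of_le_of_card_le' (cj_le_iff.mpr ?_) (card_cj m _).ge)
    rintro b ⟨hb, hb'⟩
    refine ⟨(mem_normalizer_iff.mp (hWn hm) b).mp hb, fun u hu => ?_⟩
    rw [show ⁅m * b * m⁻¹, u⁆ = m * ⁅b, m⁻¹ * u * m⁻¹⁻¹⁆ * m⁻¹ by
      simp only [commutatorElement_def]; group]
    exact C.hE.conj_mem _ (hb' _ ((mem_normalizer_iff.mp (hMQ (inv_mem hm)) u).mp hu)) m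
  have hEB : E ≤ B := fun e he => ⟨mem_sup_right he, fun u hu => by
    rw [commutatorElement_def, show e * u * e⁻¹ * u⁻¹ = e * (u * e⁻¹ * u⁻¹) by group]
    exact mul_mem he (C.hE.conj_mem _ (inv_mem he) u)⟩
  have hBeq : (B ⊓ Z) ⊔ E = B := by
    refine le_antisymm (sup_le inf_le_left hEB) fun b hb => ?_
    obtain ⟨u, hu, e, he, rfl⟩ := (Solvable.mem_sup_of_le_normalizer (hEn (W ⊓ Z))).mp (hBB1 hb)
    refine mul_mem (mem_sup_left ⟨?_, hu.2⟩) (mem_sup_right he)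
    rw [show u = u * e * e⁻¹ by group]
    exact B.mul_mem hb (B.inv_mem (hEB he))
  have hz0B : z0 ∈ B := ⟨mem_sup_left ⟨hzW z0 hz0 hz0c, hz0⟩, fun u hu => hz0c u (hQS hu)⟩
  refine concl_of_section hp S.2 C.hSH C.hSH C.hZc C.hE hT' hTS hQT hMQ hU hfus
    (fun N h1 h2 h3 => hQmax N h1 h2 h3) ((hBB1.trans hB1W).trans hWQ) hMB hEB (fun h0 => ?_)
    (fun _ => le_antisymm (sup_le inf_le_left (base0_le hEB ((hQT.trans hTM').trans hMB)))
      (hBeq.ge.trans (sup_le_sup_left (le_sup_left.trans le_sup_left) _)))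
    (hA B hEB (hBB1.trans hB1W) hMB)
  -- the subgroup generated by `E` and the central elements
  let E1 : Subgroup G :=
    { carrier := {v | ∃ z ∈ Z, (∀ s ∈ (S : Subgroup G), ⁅z, s⁆ ∈ E) ∧ z⁻¹ * v ∈ E}
      one_mem' := ⟨1, one_mem _, fun s _ => by rw [commutatorElement_one_left]; exact one_mem _, by simp⟩
      mul_mem' := by
        rintro v v' ⟨z, hz, hzc, hzv⟩ ⟨z', hz', hzc', hzv'⟩
        refine ⟨z * z', mul_mem hz hz', fun s hs => ?_, ?_⟩
        · rw [show ⁅z * z', s⁆ = z * ⁅z', s⁆ * z⁻¹ * ⁅z, s⁆ by simp only [commutatorElement_def]; group]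
          exact mul_mem (C.hE.conj_mem _ (hzc' s hs) z) (hzc s hs)
        · rw [show (z * z')⁻¹ * (v * v') = z'⁻¹ * (z⁻¹ * v) * z'⁻¹⁻¹ * (z'⁻¹ * v') by group]
          exact mul_mem (C.hE.conj_mem _ hzv z'⁻¹) hzv'
      inv_mem' := by
        rintro v ⟨z, hz, hzc, hzv⟩
        refine ⟨z⁻¹, inv_mem hz, fun s hs => ?_, ?_⟩
        · rw [show ⁅z⁻¹, s⁆ = (z⁻¹ * ⁅z, s⁆ * z⁻¹⁻¹)⁻¹ by simp only [commutatorElement_def]; group]
          exact inv_mem (C.hE.conj_mem _ (hzc s hs) z⁻¹)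
        · rw [show z⁻¹⁻¹ * v⁻¹ = z * (z⁻¹ * v)⁻¹ * z⁻¹ by group]
          exact C.hE.conj_mem _ (inv_mem hzv) z }
  have hEE1 : E ≤ E1 := fun e he =>
    ⟨1, one_mem _, fun s _ => by rw [commutatorElement_one_left]; exact one_mem _, by simpa using he⟩
  have hE1B : E1 ≤ B := by
    rintro v ⟨z, hz, hzc, hzv⟩
    rw [show v = z * (z⁻¹ * v) by group]
    exact mul_mem ⟨mem_sup_left ⟨hzW z hz hzc, hz⟩, fun u hu => hzc u (hQS hu)⟩ (hEB hzv)
  have hE1S : E1 ≤ (S : Subgroup G) := ((hE1B.trans (hBB1.trans hB1W)).trans hWQ).trans hQS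
  set N := normalizer (E1 : Set G) with hN
  set G' := cK N E1 E le_rfl (hEn N) with hG'
  have hSG' : (S : Subgroup G) ≤ G' := by
    intro s hs
    have hc : ∀ v ∈ E1, ⁅s, v⁆ ∈ E := by
      rintro v ⟨z, hz, hzc, hzv⟩
      rw [show ⁅s, v⁆ = ⁅z, s⁆⁻¹ * (z * (s * (z⁻¹ * v) * s⁻¹ * (z⁻¹ * v)⁻¹) * z⁻¹) by
        simp only [commutatorElement_def]; group]
      exact mul_mem (inv_mem (hzc s hs))
        (C.hE.conj_mem _ (mul_mem (C.hE.conj_mem _ hzv s) (inv_mem hzv)) z)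
    refine ⟨mem_normalizer_iff_cj.mpr (eq_of_le_of_card_le' (cj_le_iff.mpr fun v hv => ?_) (card_cj s _).ge), hc⟩
    rw [show s * v * s⁻¹ = ⁅s, v⁆ * v by simp only [commutatorElement_def]; group]
    exact mul_mem (hEE1 (hc v hv)) hv
  have hG'ne : G' ≠ ⊤ := by
    intro htop
    have hn : E1.Normal := normalizer_eq_top_iff.mp (eq_top_iff.mpr fun x _ => by
      have hx : x ∈ G' := htop ▸ mem_top x
      exact hx.1)
    exact hz0E (C.hcoreE E1 hn (S.2.to_le hE1S) ⟨z0, hz0, hz0c, by simp⟩)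
  have hK2 : cK M' B E hMB (hEn M') ≤ normalizer ((Z ⊓ Q : Subgroup G) : Set G) := by
    rintro c ⟨hc, hc'⟩
    have hcG : c ∈ G' := ⟨mem_normalizer_iff_cj.mpr (eq_of_le_of_card_le' (cj_le_iff.mpr fun v hv => by
        rw [show c * v * c⁻¹ = ⁅c, v⁆ * v by simp only [commutatorElement_def]; group]
        exact mul_mem (hEE1 (hc' v (hE1B hv))) hv) (card_cj c _).ge), fun v hv => hc' v (hE1B hv)⟩
    exact mem_normalizer_inf_of_fused (hMQ hc) (C.hsub G' hG'ne hSG' Q c hcG hQS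
      (by rw [mem_normalizer_iff_cj.mp (hMQ hc)]; exact hQS))
  -- the kernel on `B / base0` is a p-group modulo the kernel on `B / E`
  refine le_trans (le_of_mod_in (C := cK M' B E hMB (hEn M'))
    (L := M' ⊓ normalizer ((Z ⊓ Q : Subgroup G) : Set G)) hT' (fun c hc => hc.1)
    (cK_normalized hMB h0) (cK_normalized hMB (hEn M')) (fun c hc => ?_)
    (inf_le_left.trans (le_inf hTM' ?_)) (fun c hc => ⟨hc.1.1, hK2 hc.2⟩)) inf_le_right
  swap
  · exact (le_inf (hTS.trans C.hSH) (hTM'.trans hMQ)).trans normalizer_inf_le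
  have hBQ : B ≤ Q := (hBB1.trans hB1W).trans hWQ
  let π := QuotientGroup.mk' E
  let X := B.map π
  letI : CommGroup X :=
    { (inferInstance : Group X) with
      mul_comm := by
        rintro ⟨_, a, ha, rfl⟩ ⟨_, b, hb, rfl⟩
        apply Subtype.ext
        show π a * π b = π b * π a
        rw [← commutatorElement_eq_one_iff_mul_comm, ← map_commutatorElement]
        exact (QuotientGroup.eq_one_iff _).mpr (ha.2 b (hBQ hb)) }
  let pows : Subgroup X := (powMonoidHom p : X →* X).range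
  have hbase : ∀ b ∈ base0 p E B Q, ∃ d : X, π b = ((d ^ p : X) : G ⧸ E) := by
    have hle : base0 p E B Q ≤ (pows.map X.subtype).comap π := by
      refine sup_le (sup_le (fun e he => ?_) (commutator_le.mpr fun a ha b hb => ?_))
        ((closure_le _).mpr ?_)
      · rw [mem_comap, show π e = 1 from (QuotientGroup.eq_one_iff e).mpr he]; exact one_mem _
      · rw [mem_comap, show π ⁅a, b⁆ = 1 from (QuotientGroup.eq_one_iff _).mpr (ha.2 b hb)]
        exact one_mem _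
      · rintro _ ⟨b, hb, rfl⟩
        exact ⟨⟨π b, mem_map_of_mem π hb⟩ ^ p, ⟨_, rfl⟩, by simp⟩
    intro b hb
    obtain ⟨_, ⟨d, rfl⟩, he⟩ := hle hb
    exact ⟨d, he.symm⟩
  have hcX : ∀ v : G ⧸ E, v ∈ X → π c * v * (π c)⁻¹ ∈ X := by
    rintro _ ⟨b, hb, rfl⟩
    exact ⟨c * b * c⁻¹, (mem_normalizer_iff.mp (hMB hc.1) b).mp hb, by simp⟩
  let σ : X →* X := MonoidHom.mk' (fun v => ⟨π c * v * (π c)⁻¹, hcX v v.2⟩)
    (fun u v => Subtype.ext (show π c * (u * v : G ⧸ E) * (π c)⁻¹ = _ by simp [mul_assoc]))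
  obtain ⟨k, hk⟩ := exists_iterate_eq (p := p) ((S.2.to_le (hBQ.trans hQS)).map π) σ (by
    rintro ⟨_, b, hb, rfl⟩
    obtain ⟨d, hd⟩ := hbase _ (hc.2 b hb)
    refine ⟨d, (show σ ⟨π b, mem_map_of_mem π hb⟩ = d ^ p * ⟨π b, mem_map_of_mem π hb⟩ from ?_).trans
      (mul_comm _ _)⟩
    apply Subtype.ext
    show π c * π b * (π c)⁻¹ = ((d ^ p : X) : G ⧸ E) * π b
    rw [← hd, map_commutatorElement, commutatorElement_def, inv_mul_cancel_right])
  refine ⟨k, pow_mem hc.1 _, fun b hb => ?_⟩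
  have hit : ∀ n, ((σ^[n] ⟨π b, mem_map_of_mem π hb⟩ : X) : G ⧸ E) = π (c ^ n) * π b * (π (c ^ n))⁻¹ := by
    intro n
    induction n with
    | zero => simp
    | succ n ih =>
      rw [Function.iterate_succ_apply']
      show π c * _ * (π c)⁻¹ = _
      rw [ih, pow_succ' c, map_mul]
      group
  have h1 := (hit (p ^ k)).symm.trans (congrArg Subtype.val (hk _))
  refine (QuotientGroup.eq_one_iff _).mp ?_
  show π ⁅c ^ p ^ k, b⁆ = 1
  rw [map_commutatorElement, commutatorElement_eq_one_iff_mul_comm]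
  exact mul_inv_eq_iff_eq_mul.mp h1

end CfsgLib.ZJFail
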