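import Cfsg.Agent.ZJ.ZJCenter

/-!
Subgroups abelian modulo a normal subgroup `E`, of largest order, and their replacement.
-/

set_option autoImplicit false
set_option linter.unusedSectionVars false

namespace CfsgLib.ZJFail

open Subgroup CfsgLib.ZJ CfsgLib.Functor
open scoped CfsgLib.Functor commutatorElement

variable {G : Type*} [Group G]

/-- `A` contains `E` and is abelian modulo `E`. -/
def Mem (E A : Subgroup G) : Prop := E ≤ A ∧ ∀ a ∈ A, ∀ b ∈ A, ⁅a, b⁆ ∈ E

/-- The subgroup generated by the members of largest order. -/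
def Jmod (E U : Subgroup G) : Subgroup G := sSup (fam (Mem E) U)

/-- The intersection of the members of largest order. -/
def Wmod (E U : Subgroup G) : Subgroup G := sInf (fam (Mem E) U)

theorem mem_bot_iff_abelian {A : Subgroup G} : Mem ⊥ A ↔ IsMulCommutative A := by
  constructor
  · exact fun h => ⟨⟨fun a b => Subtype.ext
      (commutatorElement_eq_one_iff_mul_comm.mp (mem_bot.mp (h.2 a a.2 b b.2)))⟩⟩
  · intro h
    exact ⟨bot_le, fun a ha b hb => mem_bot.mpr (commutatorElement_eq_one_iff_mul_comm.mpr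
      (congrArg Subtype.val (h.is_comm.comm ⟨a, ha⟩ ⟨b, hb⟩)))⟩

theorem Wmod_bot [Finite G] (U : Subgroup G) : Wmod ⊥ U = Cfsg.centerThompsonAOf U := by
  rw [← famCenter_abelian_eq, Wmod, famCenter]
  congr 2
  exact funext fun A => propext mem_bot_iff_abelian

variable {E U : Subgroup G}

theorem Jmod_le : Jmod E U ≤ U := sSup_le fun _ h => h.2.1

variable [Finite G]

theorem exists_member [E.Normal] (hEU : E ≤ U) : ∃ A, A ∈ fam (Mem E) U := by
  obtain ⟨A, ⟨hA, hAU⟩, hmax⟩ := Set.exists_max_image {A : Subgroup G | Mem E A ∧ A ≤ U}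
    (fun A => Nat.card A) (Set.toFinite _)
    ⟨E, ⟨le_rfl, fun a ha b hb => by
      rw [commutatorElement_def]
      exact mul_mem (mul_mem (mul_mem ha hb) (inv_mem ha)) (inv_mem hb)⟩, hEU⟩
  exact ⟨A, hA, hAU, fun B hB hBU => hmax B ⟨hB, hBU⟩⟩

theorem Wmod_le [E.Normal] (hEU : E ≤ U) : Wmod E U ≤ U := by
  obtain ⟨A, hA⟩ := exists_member hEU
  exact (sInf_le hA).trans hA.2.1

theorem le_Wmod : E ≤ Wmod E U := le_sInf fun _ h => h.1.1

theorem Wmod_comm [E.Normal] (hEU : E ≤ U) {a b : G} (ha : a ∈ Wmod E U) (hb : b ∈ Wmod E U) :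
    ⁅a, b⁆ ∈ E := by
  obtain ⟨A, hA⟩ := exists_member hEU
  exact hA.1.2 a (sInf_le hA ha) b (sInf_le hA hb)

/-- An element of `U` commuting with a member modulo `E` is in it. -/
theorem mem_member [E.Normal] {A : Subgroup G} (hA : A ∈ fam (Mem E) U) {z : G} (hz : z ∈ U)
    (hc : ∀ a ∈ A, ⁅z, a⁆ ∈ E) : z ∈ A := by
  set π := QuotientGroup.mk' E
  have hcl : Mem E (closure (insert z (A : Set G))) := by
    refine ⟨hA.1.1.trans (fun a ha => subset_closure (Set.mem_insert_of_mem _ ha)), fun a ha b hb => ?_⟩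
    have hg : IsMulCommutative ((closure (insert z (A : Set G))).map π) := by
      rw [MonoidHom.map_closure]
      refine Subgroup.isMulCommutative_closure ?_
      rintro _ ⟨u, hu, rfl⟩ _ ⟨v, hv, rfl⟩
      rw [← commutatorElement_eq_one_iff_mul_comm, ← map_commutatorElement]
      refine (QuotientGroup.eq_one_iff _).mpr ?_
      rcases hu with rfl | hu <;> rcases hv with rfl | hv
      · rw [commutatorElement_self]; exact one_mem _
      · exact hc v hv
      · rw [← commutatorElement_inv]; exact inv_mem (hc u hu)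
      · exact hA.1.2 u hu v hv
    refine (QuotientGroup.eq_one_iff _).mp ?_
    show π ⁅a, b⁆ = 1
    rw [map_commutatorElement, commutatorElement_eq_one_iff_mul_comm]
    exact congrArg Subtype.val
      (hg.is_comm.comm ⟨π a, mem_map_of_mem π ha⟩ ⟨π b, mem_map_of_mem π hb⟩)
  rw [Solvable.eq_of_le_of_card_le
    (fun a ha => subset_closure (Set.mem_insert_of_mem _ ha))
    (hA.2.2 _ hcl ((closure_le _).mpr (Set.insert_subset hz hA.2.1)))]
  exact subset_closure (Set.mem_insert _ _)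

theorem fam_cj [hE : E.Normal] (g : G) {A : Subgroup G} (hA : A ∈ fam (Mem E) U) :
    g ⋆ A ∈ fam (Mem E) (g ⋆ U) := by
  have key : ∀ (g : G) (A : Subgroup G), Mem E A → Mem E (g ⋆ A) := by
    intro g A hA
    refine ⟨fun e he => mem_cj.mpr (hA.1 (by simpa using hE.conj_mem e he g⁻¹)), ?_⟩
    rintro _ ⟨a, ha, rfl⟩ _ ⟨b, hb, rfl⟩
    rw [← map_commutatorElement]
    exact hE.conj_mem _ (hA.2 a ha b hb) g
  refine ⟨key g A hA.1, cj_mono g hA.2.1, fun B hB hBU => ?_⟩
  have h := hA.2.2 _ (key g⁻¹ B hB) (by rw [cj_le_iff', inv_inv]; exact hBU)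
  rwa [card_cj, ← card_cj g A] at h

theorem Jmod_cj [E.Normal] (g : G) : g ⋆ Jmod E U = Jmod E (g ⋆ U) := by
  refine le_antisymm ?_ (sSup_le fun A hA => ?_)
  · rw [cj_le_iff']
    exact sSup_le fun A hA => cj_le_iff'.mp (le_sSup (fam_cj g hA))
  · have h := fam_cj g⁻¹ hA
    rw [cj_inv_cj] at h
    rw [← cj_cj_inv g A]
    exact cj_mono g (le_sSup h)

theorem Wmod_cj [E.Normal] (g : G) : g ⋆ Wmod E U = Wmod E (g ⋆ U) := by
  refine le_antisymm (le_sInf fun A hA => ?_) ?_
  · have h := fam_cj g⁻¹ hA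
    rw [cj_inv_cj] at h
    rw [← cj_cj_inv g A]
    exact cj_mono g (sInf_le h)
  · rw [← cj_cj_inv g (Wmod E (g ⋆ U))]
    refine cj_mono g (le_sInf fun A hA => ?_)
    rw [cj_le_iff', inv_inv]
    exact sInf_le (fam_cj g hA)

theorem normalizer_le_Jmod [E.Normal] : normalizer (U : Set G) ≤ normalizer (Jmod E U : Set G) := by
  intro g hg
  rw [mem_normalizer_iff_cj] at hg ⊢
  rw [Jmod_cj, hg]

theorem normalizer_le_Wmod [E.Normal] : normalizer (U : Set G) ≤ normalizer (Wmod E U : Set G) := by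
  intro g hg
  rw [mem_normalizer_iff_cj] at hg ⊢
  rw [Wmod_cj, hg]

/-- The common order of the members of largest order. -/
noncomputable def dmod (E U : Subgroup G) : ℕ := sSup {n | ∃ A, Mem E A ∧ A ≤ U ∧ Nat.card A = n}

theorem dmod_eq {A : Subgroup G} (hA : A ∈ fam (Mem E) U) : dmod E U = Nat.card A := by
  refine (csSup_eq_of_forall_le_of_forall_lt_exists_gt ⟨_, A, hA.1, hA.2.1, rfl⟩ ?_ ?_)
  · rintro n ⟨B, hB, hBU, rfl⟩
    exact hA.2.2 B hB hBU
  · exact fun n hn => ⟨_, ⟨A, hA.1, hA.2.1, rfl⟩, hn⟩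

theorem dmod_mono [E.Normal] {V : Subgroup G} (hEU : E ≤ U) (hUV : U ≤ V) : dmod E U ≤ dmod E V := by
  obtain ⟨A, hA⟩ := exists_member hEU
  obtain ⟨B, hB⟩ := exists_member (hEU.trans hUV)
  rw [dmod_eq hA, dmod_eq hB]
  exact hB.2.2 A hA.1 (hA.2.1.trans hUV)

theorem dmod_cj [E.Normal] (hEU : E ≤ U) (g : G) : dmod E (g ⋆ U) = dmod E U := by
  obtain ⟨A, hA⟩ := exists_member hEU
  rw [dmod_eq hA, dmod_eq (fam_cj g hA), card_cj]

theorem fam_subset [E.Normal] {V : Subgroup G} (hEU : E ≤ U) (hUV : U ≤ V)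
    (hd : dmod E U = dmod E V) : fam (Mem E) U ⊆ fam (Mem E) V := fun A hA => by
  obtain ⟨B, hB⟩ := exists_member (hEU.trans hUV)
  refine ⟨hA.1, hA.2.1.trans hUV, fun C hC hCV => ?_⟩
  rw [dmod_eq hA, dmod_eq hB] at hd
  exact hd ▸ hB.2.2 C hC hCV

/-- Between `U` and a larger subgroup whose members all lie in `U`, nothing changes. -/
theorem fam_eq_of_le [E.Normal] {V : Subgroup G} (hEV : E ≤ V) (hUV : U ≤ V) (h : Jmod E V ≤ U) :
    fam (Mem E) U = fam (Mem E) V := by
  obtain ⟨B, hB⟩ := exists_member hEV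
  ext A
  exact ⟨fun hA => ⟨hA.1, hA.2.1.trans hUV, fun C hC hCV =>
      (hB.2.2 C hC hCV).trans (hA.2.2 B hB.1 ((le_sSup hB).trans h))⟩,
    fun hA => ⟨hA.1, (le_sSup hA).trans h, fun C hC hCU => hA.2.2 C hC (hCU.trans hUV)⟩⟩

variable {p : ℕ} [Fact p.Prime]

/-- A member normalized by `B` outside `P`, if the members inside `P` contain `B`. -/
theorem exists_normalized_member [E.Normal] (hp : p ≠ 2) (hU : IsPGroup p U) {B P : Subgroup G}
    (hEB : E ≤ B) (hBU : B ≤ U) (hUB : U ≤ normalizer (B : Set G))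
    (hB' : ∀ A ∈ fam (Mem E) U, ∀ a ∈ B, ∀ b ∈ B, ⁅a, b⁆ ∈ A)
    (hex : ∃ A ∈ fam (Mem E) U, ¬ A ≤ P)
    (hin : ∀ A ∈ fam (Mem E) U, A ≤ P → B ≤ A) :
    ∃ A ∈ fam (Mem E) U, ¬ A ≤ P ∧ B ≤ normalizer (A : Set G) := by
  obtain ⟨A, ⟨hA, hAP⟩, hmax⟩ := Set.exists_max_image
    {A : Subgroup G | A ∈ fam (Mem E) U ∧ ¬ A ≤ P} (fun A => Nat.card ↥(A ⊓ B)) (Set.toFinite _) hex
  refine ⟨A, hA, hAP, by_contra fun hBA => ?_⟩
  set π := QuotientGroup.mk' E with hπ
  have hker : ∀ X : Subgroup G, E ≤ X → (X.map π).comap π = X := fun X hX => by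
    rw [comap_map_eq, QuotientGroup.ker_mk', sup_eq_left.mpr hX]
  have hEU : E ≤ U := hEB.trans hBU
  have hAc : IsMulCommutative (A.map π) := ⟨⟨by
    rintro ⟨_, a, ha, rfl⟩ ⟨_, b, hb, rfl⟩
    apply Subtype.ext
    show π a * π b = π b * π a
    rw [← commutatorElement_eq_one_iff_mul_comm, ← map_commutatorElement]
    exact (QuotientGroup.eq_one_iff _).mpr (hA.1.2 a ha b hb)⟩⟩
  have hmemN : ∀ X : Subgroup G, E ≤ X → ∀ g, π g ∈ normalizer (X.map π : Set (G ⧸ E)) →
      g ∈ normalizer (X : Set G) := by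
    intro X hX g hg
    rw [mem_normalizer_iff]
    intro u
    have h := mem_normalizer_iff.mp hg (π u)
    rw [← map_inv, ← map_mul, ← map_mul, ← mem_comap, ← mem_comap, hker X hX] at h
    exact h
  have hBA' : ¬ B.map π ≤ normalizer (A.map π : Set (G ⧸ E)) := fun h =>
    hBA fun b hb => hmemN A hA.1.1 b (h (mem_map_of_mem π hb))
  obtain ⟨b, R, hb, hbA⟩ := exists_replacement_in (p := p)
    ((hU.map π).to_le (sup_le (map_mono hA.2.1) (map_mono hBU))) hAc
    (by rw [← map_commutator]; exact map_mono (commutator_le.mpr fun a ha b hb => hB' A hA a ha b hb))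
    ((map_mono (hA.2.1.trans hUB)).trans (le_normalizer_map π)) hBA'
  have hodd : Odd (orderOf b) := by
    obtain ⟨k, hk⟩ := IsPGroup.iff_orderOf.mp ((hU.to_le hBU).map π) ⟨b, hb⟩
    rw [show orderOf b = p ^ k by simpa using hk]
    exact ((Fact.out : p.Prime).odd_of_ne_two hp).pow
  set A' := (repl (A.map π) b).comap π with hA'
  have hA'U : A' ≤ U := by
    rw [← hker U hEU]
    refine comap_mono ((repl_le_sup _ b).trans (sup_le (map_mono hA.2.1) ?_))
    rintro _ ⟨a, ha, rfl⟩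
    have hbU := map_mono hBU hb
    simpa using mul_mem (mul_mem (inv_mem hbU) (map_mono hA.2.1 ha)) hbU
  have hA'm : Mem E A' := by
    refine ⟨fun e he => ?_, fun a ha c hc => (QuotientGroup.eq_one_iff _).mp ?_⟩
    · rw [hA', mem_comap, show π e = 1 from (QuotientGroup.eq_one_iff e).mpr he]
      exact one_mem _
    · show π ⁅a, c⁆ = 1
      rw [map_commutatorElement, commutatorElement_eq_one_iff_mul_comm]
      exact R.repl_comm (Or.inl hodd) ha hc
  have hcard : ∀ X : Subgroup (G ⧸ E), Nat.card (X.comap π) = Nat.card E * Nat.card X := by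
    intro X
    conv_rhs => rw [← map_comap_eq_self_of_surjective (QuotientGroup.mk'_surjective E) X, ← relIndex_ker,
      QuotientGroup.ker_mk']
    rw [← relIndex_bot_left, ← relIndex_bot_left]
    exact (relIndex_mul_relIndex ⊥ E _ bot_le
      ((QuotientGroup.ker_mk' E).ge.trans (ker_le_comap _ X))).symm
  have hA'f : A' ∈ fam (Mem E) U := ⟨hA'm, hA'U, fun C hC hCU => by
    rw [hA', hcard, R.card_repl (Or.inl hodd), ← hcard, hker A hA.1.1]
    exact hA.2.2 C hC hCU⟩
  have hA'N : A' ≤ normalizer (A : Set G) := fun a ha => hmemN A hA.1.1 a (R.repl_le_normalizer ha)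
  have hA'P : A' ≤ P := by
    by_contra hn
    refine absurd (hmax _ ⟨hA'f, hn⟩) (not_le.mpr (Solvable.card_lt_of_lt ?_))
    have hlt := R.inf_lt hbA
    have e : (A.map π ⊓ B.map π).comap π = A ⊓ B := by
      rw [comap_inf, hker A hA.1.1, hker B hEB]
    rw [← e, hA', show (repl (A.map π) b).comap π ⊓ B = (repl (A.map π) b ⊓ B.map π).comap π by
      rw [comap_inf, hker B hEB]]
    exact (comap_lt_comap_of_surjective (QuotientGroup.mk'_surjective E)).mpr hlt
  exact hBA ((hin A' hA'f hA'P).trans hA'N)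

end CfsgLib.ZJFail
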