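import Cfsg.Agent.ZJFail.Section
import Cfsg.Agent.ZJ.ControlCore

/-!
The kernel modulo centralizers, a Frattini decomposition, and elementary facts on fusion.
-/

set_option autoImplicit false
set_option linter.style.haveILetI false

namespace CfsgLib.ZJFail

open Subgroup CfsgLib.ZJ CfsgLib.Functor
open scoped CfsgLib.Functor commutatorElement

variable {G : Type*} [Group G] [Finite G] {p : ℕ} [Fact p.Prime]

omit [Finite G] in
theorem centralizer_normalized {M P : Subgroup G} (h : M ≤ normalizer (P : Set G)) :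
    M ≤ normalizer (centralizer (P : Set G) : Set G) := by
  intro m hm
  rw [mem_normalizer_iff_cj, cj_centralizer, mem_normalizer_iff_cj.mp (h hm)]

/-- The largest normalized subgroup of `M` that is a p-group modulo the centralizer of `P`. -/
theorem exists_modKer {M P : Subgroup G} (hMP : M ≤ normalizer (P : Set G)) :
    ∃ K : Subgroup G, K ≤ M ∧ M ≤ normalizer (K : Set G) ∧
      (∀ x ∈ K, ∃ k, x ^ p ^ k ∈ centralizer (P : Set G)) ∧
      ∀ N : Subgroup G, N ≤ M → M ≤ normalizer (N : Set G) →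
        (∀ x ∈ N, ∃ k, x ^ p ^ k ∈ centralizer (P : Set G)) → N ≤ K := by
  set C := (centralizer (P : Set G)).subgroupOf M with hC
  haveI : C.Normal := normal_subgroupOf_of_le_normalizer (centralizer_normalized hMP)
  set K0 := (Cfsg.pCore p (M ⧸ C)).comap (QuotientGroup.mk' C) with hK0
  haveI : K0.Normal := Normal.comap (Solvable.pCore_normal p) _
  refine ⟨K0.map M.subtype, map_subtype_le _, ?_, ?_, fun N hN hMN hp => ?_⟩
  · refine le_trans ?_ (le_normalizer_map M.subtype)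
    rw [normalizer_eq_top (H := K0), ← MonoidHom.range_eq_map, range_subtype]
  · rintro _ ⟨x, hx, rfl⟩
    obtain ⟨D, -, hxD, hD⟩ := (pcoreMod_iff C x).mpr hx
    obtain ⟨k, hk⟩ := hD x hxD
    exact ⟨k, by simpa using mem_subgroupOf.mp hk⟩
  · intro x hx
    refine ⟨⟨x, hN hx⟩, (pcoreMod_iff C _).mp ⟨N.subgroupOf M,
      normal_subgroupOf_of_le_normalizer hMN, mem_subgroupOf.mpr hx, fun y hy => ?_⟩, rfl⟩
    exact (hp y (mem_subgroupOf.mp hy)).imp fun k hk => mem_subgroupOf.mpr (by simpa using hk)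

/-- Every element of `M` is a product of one in `K` centralizing `P` and one normalizing a Sylow
subgroup of `K`. -/
theorem exists_frattini {M T K P : Subgroup G} (hT : IsSylowIn p T M) (hKM : K ≤ M)
    (hMK : M ≤ normalizer (K : Set G)) (hMP : M ≤ normalizer (P : Set G))
    (hK : ∀ x ∈ K, ∃ k, x ^ p ^ k ∈ centralizer (P : Set G)) {m : G} (hm : m ∈ M) :
    ∃ c ∈ K ⊓ centralizer (P : Set G),
      ∃ e ∈ M ⊓ normalizer ((T ⊓ K : Subgroup G) : Set G), m = c * e := by
  have hTK := hT.inf_normal hKM hMK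
  have hCn : M ≤ normalizer ((K ⊓ centralizer (P : Set G) : Subgroup G) : Set G) :=
    (le_inf hMK (centralizer_normalized hMP)).trans normalizer_inf_le
  have hKle : K ≤ (T ⊓ K) ⊔ (K ⊓ centralizer (P : Set G)) :=
    le_of_mod_in hT hKM hMK (centralizer_normalized hMP) hK le_sup_left le_sup_right
  obtain ⟨k, hk, hkeq⟩ := hTK.exists_cj_eq (hTK.cj_of_mem (hMK hm))
  rw [cj_cj, ← mem_normalizer_iff_cj] at hkeq
  obtain ⟨t, ht, c, hc, hkc⟩ := (Solvable.mem_sup_of_le_normalizer
    (((inf_le_right : T ⊓ K ≤ K).trans hKM).trans hCn)).mp (hKle (inv_mem hk))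
  refine ⟨t * c * t⁻¹, (mem_normalizer_iff.mp (hCn (hKM ht.2)) c).mp hc, t * (k * m),
    ⟨mul_mem (hKM ht.2) (mul_mem (hKM hk) hm), mul_mem (le_normalizer ht) hkeq⟩, ?_⟩
  calc m = k⁻¹ * (k * m) := by group
    _ = _ := by rw [← hkc]; group

omit [Finite G] in
/-- An element centralizing `A` does not change fusion. -/
theorem fused_mul_left {X A : Subgroup G} {c e : G} (he : e ∈ normalizer (A : Set G))
    (hc : c ∈ centralizer (A : Set G)) (h : Fused X A e) : Fused X A (c * e) :=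
  h.congr fun a ha => by
    have h1 := mem_centralizer_iff.mp hc _ ((mem_normalizer_iff.mp he a).mp ha)
    calc e * a * e⁻¹ = (e * a * e⁻¹) * c * c⁻¹ := by group
      _ = c * (e * a * e⁻¹) * c⁻¹ := by rw [h1]
      _ = _ := by group

/-- A fused element of `N(P)` normalizes `Z ∩ P`. -/
theorem mem_normalizer_inf_of_fused {Z P : Subgroup G} {g : G} (hg : g ∈ normalizer (P : Set G))
    (h : Fused (normalizer (Z : Set G)) P g) : g ∈ normalizer ((Z ⊓ P : Subgroup G) : Set G) := by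
  obtain ⟨x, hx, he⟩ := h
  refine mem_normalizer_iff_cj.mpr (eq_of_le_of_card_le' (cj_le_iff.mpr fun a ha => ⟨?_, ?_⟩) (card_cj g _).ge)
  · rw [← he a ha.2]; exact (mem_normalizer_iff.mp hx a).mp ha.1
  · exact (mem_normalizer_iff.mp hg a).mp ha.2

/-- An element of `S` stabilizing `1 ≤ U ≤ P` lies in every kernel modulo centralizers. -/
theorem mem_of_stabilizes {M P U K : Subgroup G} (hMP : M ≤ normalizer (P : Set G))
    (hMU : M ≤ normalizer (U : Set G)) (hUp : IsPGroup p U)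
    (hK : ∀ N : Subgroup G, N ≤ M → M ≤ normalizer (N : Set G) →
        (∀ x ∈ N, ∃ k, x ^ p ^ k ∈ centralizer (P : Set G)) → N ≤ K)
    {z : G} (hzM : z ∈ M) (hz1 : z ∈ centralizer (U : Set G)) (hz2 : ∀ u ∈ P, ⁅z, u⁆ ∈ U) : z ∈ K := by
  have hCn := centralizer_normalized hMU
  set N := cK M P U hMP hMU ⊓ centralizer (U : Set G) with hN
  refine hK N (fun x hx => hx.1.1) ((le_inf (cK_normalized hMP hMU) hCn).trans normalizer_inf_le)
    (fun x hx => ?_) ⟨⟨hzM, hz2⟩, hz1⟩
  obtain ⟨k, hk⟩ := pow_mem_centralizer_of_step hUp hx.2 (B := P) (fun u hu => by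
    have := hx.1.2 u hu
    rwa [commutatorElement_def] at this)
  exact ⟨k, hk⟩

omit [Fact p.Prime] in
theorem exists_iterate_eq {A : Type*} [CommGroup A] [Finite A] (hA : IsPGroup p A) (σ : A →* A)
    (h : ∀ a, ∃ d, σ a = a * d ^ p) [Fact p.Prime] : ∃ k, ∀ a, σ^[p ^ k] a = a := by
  obtain ⟨n, hn⟩ := hA.exists_card_eq
  have step : ∀ i, 1 ≤ i → ∀ τ : A → A, (∀ a b, τ (a * b) = τ a * τ b) →
      (∀ a, ∃ d, τ a = a * d ^ p ^ i) → ∀ a, ∃ d, τ^[p] a = a * d ^ p ^ (i + 1) := by
    intro i hi τ hmul hτ a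
    obtain ⟨d0, hd0⟩ := hτ a
    have key : ∀ j, ∃ f, τ^[j] a = a * (d0 ^ j * f ^ p) ^ p ^ i := by
      intro j
      induction j with
      | zero => exact ⟨1, by simp⟩
      | succ j ih =>
        obtain ⟨f, hf⟩ := ih
        obtain ⟨g, hg⟩ := hτ (d0 ^ j * f ^ p)
        let τh : A →* A := MonoidHom.mk' τ hmul
        refine ⟨f * g ^ p ^ (i - 1), ?_⟩
        rw [Function.iterate_succ_apply', hf, hmul, hd0, show τ ((d0 ^ j * f ^ p) ^ p ^ i) =
          τ (d0 ^ j * f ^ p) ^ p ^ i from map_pow τh _ _, hg, mul_assoc, ← mul_pow, pow_succ' d0,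
          mul_pow f, ← pow_mul g (p ^ (i - 1)), ← pow_succ, Nat.sub_add_cancel hi]
        simp only [mul_assoc]
    obtain ⟨f, hf⟩ := key p
    exact ⟨d0 * f, by rw [hf, ← mul_pow, pow_succ', pow_mul]⟩
  have all : ∀ k, ∀ a, ∃ d, σ^[p ^ k] a = a * d ^ p ^ (k + 1) := by
    intro k
    induction k with
    | zero => simpa using h
    | succ k ih =>
      intro a
      rw [pow_succ, Function.iterate_mul]
      exact step (k + 1) (Nat.succ_le_succ (Nat.zero_le _)) _
        (fun a b => iterate_map_mul σ _ a b) ih a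
  refine ⟨n, fun a => ?_⟩
  obtain ⟨d, hd⟩ := all n a
  rw [hd, pow_succ, pow_mul, ← hn, pow_card_eq_one', one_pow, mul_one]

end CfsgLib.ZJFail
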