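import Cfsg.Agent.ZJFail.Point

/-!
The torus element of the final configuration, read inside the group.
-/

set_option autoImplicit false
set_option linter.style.haveILetI false

namespace CfsgLib.ZJFail

open Subgroup CfsgLib.ZJ CfsgLib.Functor
open scoped CfsgLib.Functor commutatorElement

variable {G : Type*} [Group G] [Finite G] {p : ℕ} [Fact p.Prime] {S H Z : Subgroup G}

/-- A plane modulo an invariant subgroup with a transvection and a fused torus element. -/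
theorem Ready.exists_plane (R : Ready p S H Z) (hp : p ≠ 2) (α : (ZMod p)ˣ) :
    ∃ (W X' : Subgroup G) (w x τ : G), R.B0 ≤ X' ∧ X' ≤ W ∧ W ≤ R.B ∧ R.y ∈ W ∧ w ∈ W ∧
      x ∈ R.T ∧ τ ∈ R.M0 ∧ x ∈ normalizer (W : Set G) ∧ x ∈ normalizer (X' : Set G) ∧
      τ ∈ normalizer (W : Set G) ∧ τ ∈ normalizer (X' : Set G) ∧
      (∀ s t : ℕ, R.y ^ s * w ^ t ∈ X' → p ∣ s ∧ p ∣ t) ∧
      x * R.y * x⁻¹ * R.y⁻¹ ∈ X' ∧ x * w * x⁻¹ * (w * R.y)⁻¹ ∈ X' ∧
      τ * R.y * τ⁻¹ * (R.y ^ (α : ZMod p).val)⁻¹ ∈ X' ∧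
      τ * w * τ⁻¹ * (w ^ ((α⁻¹ : (ZMod p)ˣ) : ZMod p).val)⁻¹ ∈ X' := by
  classical
  obtain ⟨x, b, hxc, hxT, hbc, hb0, hsyl⟩ := R.exists_pair
  have hB0M : R.B0 ≤ R.M := R.hB0B.trans (R.hBP.trans (R.hPT.trans R.hT.le))
  have hBM : R.B ≤ R.M := R.hBP.trans (R.hPT.trans R.hT.le)
  -- the module
  let N0 : Subgroup R.M := R.B0.subgroupOf R.M
  haveI : N0.Normal := normal_subgroupOf_of_le_normalizer R.hMB0
  let π := QuotientGroup.mk' N0
  let Bb : Subgroup (R.M ⧸ N0) := (R.B.subgroupOf R.M).map π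
  have hBn : (R.B.subgroupOf R.M).Normal := normal_subgroupOf_of_le_normalizer R.hMB
  haveI : Bb.Normal := hBn.map π (QuotientGroup.mk'_surjective _)
  have hV : Cfsg.IsElementaryAbelian p Bb := by
    refine ⟨⟨⟨?_⟩⟩, ?_⟩
    · rintro ⟨_, u, hu, rfl⟩ ⟨_, v, hv, rfl⟩
      apply Subtype.ext
      show π u * π v = π v * π u
      rw [← commutatorElement_eq_one_iff_mul_comm, ← map_commutatorElement]
      exact (QuotientGroup.eq_one_iff _).mpr (R.hcen _ hu _ (R.hBP hv))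
    · rintro _ ⟨u, hu, rfl⟩
      rw [← map_pow]
      exact (QuotientGroup.eq_one_iff _).mpr (R.hpow _ hu)
  let toN : R.M →* ↥(normalizer (Bb : Set (R.M ⧸ N0))) :=
    π.codRestrict _ (fun m => by rw [normalizer_eq_top (H := Bb)]; exact mem_top _)
  let ρ : R.M →* Module.End (ZMod p) (ElabMod Bb hV) := (conjEnd hV).comp toN
  let ι : ∀ u, u ∈ R.B → ElabMod Bb hV := fun u hu =>
    toVec hV ⟨π ⟨u, hBM hu⟩, mem_map_of_mem π (mem_subgroupOf.mpr hu)⟩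
  have ι_mul : ∀ u v hu hv, ι (u * v) (mul_mem hu hv) = ι u hu + ι v hv := fun _ _ _ _ => rfl
  have ι_zero : ∀ u hu, ι u hu = 0 ↔ u ∈ R.B0 := by
    intro u hu
    constructor
    · intro h
      exact mem_subgroupOf.mp ((QuotientGroup.eq_one_iff _).mp
        (congrArg (fun v => ((ofVec hV v : Bb) : R.M ⧸ N0)) h))
    · exact fun h => ofVec_injective hV (Subtype.ext
        ((QuotientGroup.eq_one_iff (N := N0) ⟨u, hBM hu⟩).mpr (mem_subgroupOf.mpr h)))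
  have ι_surj : ∀ v, ∃ u hu, ι u hu = v := by
    intro v
    obtain ⟨u, hu, hue⟩ := (ofVec hV v).2
    exact ⟨u, hu, ofVec_injective hV (Subtype.ext hue)⟩
  have conjB : ∀ m ∈ R.M, ∀ u ∈ R.B, m * u * m⁻¹ ∈ R.B := fun m hm u hu =>
    (mem_normalizer_iff.mp (R.hMB hm) u).mp hu
  have conjB0 : ∀ m ∈ R.M, ∀ u ∈ R.B0, m * u * m⁻¹ ∈ R.B0 := fun m hm u hu =>
    (mem_normalizer_iff.mp (R.hMB0 hm) u).mp hu
  have ι_act : ∀ (m : R.M) u hu, ρ m (ι u hu) = ι ((m : G) * u * (m : G)⁻¹) (conjB m m.2 u hu) :=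
    fun m u hu => ofVec_injective hV (Subtype.ext rfl)
  have ι_inv : ∀ u hu, ι u⁻¹ (inv_mem hu) = - ι u hu := fun _ _ => rfl
  have ι_congr : ∀ u v hu hv, u = v → ι u hu = ι v hv := fun u v _ _ h => by subst h; rfl
  have hfix : ∀ (m : R.M) u hu, ρ m (ι u hu) = ι u hu ↔ ⁅(m : G), u⁆ ∈ R.B0 := by
    intro m u hu
    have hc : ⁅(m : G), u⁆ ∈ R.B := mul_mem (conjB m m.2 u hu) (inv_mem hu)
    rw [← ι_zero _ hc, ι_act m u hu, ← sub_eq_zero, sub_eq_add_neg]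
    rfl
  -- quadratic action
  have hquad : ∀ d : R.M, (d : G) ∈ R.cls → (ρ d - 1) * (ρ d - 1) = 0 := by
    intro d hd
    obtain ⟨A, hA, a, ha, m, hm, hdm⟩ := hd
    have q1 : ∀ u ∈ R.B, ⁅⁅u, (d : G)⁆, (d : G)⁆ ∈ R.B0 := by
      intro u hu
      have h := conjB0 m hm _ (R.hquad A hA a ha (m⁻¹ * u * m)
        (by simpa using conjB m⁻¹ (inv_mem hm) u hu))
      rw [hdm]
      convert h using 1
      simp only [commutatorElement_def]
      group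
    apply LinearMap.ext
    intro v
    obtain ⟨u, hu, rfl⟩ := ι_surj v
    set c := (d : G) * u * (d : G)⁻¹ * u⁻¹ with hc
    have hcB : c ∈ R.B := mul_mem (conjB d d.2 u hu) (inv_mem hu)
    have e1 : (ρ d - 1) (ι u hu) = ι c hcB := by
      rw [LinearMap.sub_apply, Module.End.one_apply, ι_act d u hu, sub_eq_add_neg]
      rfl
    rw [Module.End.mul_apply, e1, LinearMap.sub_apply, Module.End.one_apply, LinearMap.zero_apply,
      sub_eq_zero, hfix d c hcB]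
    have h := conjB0 c (hBM hcB) _ (q1 u hu)
    convert h using 1
    simp only [hc, commutatorElement_def]
    group
  -- the group generated by the pair
  set K := closure ({x, b} : Set G) with hK
  have hxM : x ∈ R.M := R.cls_subset hxc
  have hbM : b ∈ R.M := R.cls_subset hbc
  have hKM : K ≤ R.M := (closure_le _).mpr (by rintro u (rfl | rfl); exacts [hxM, hbM])
  let xK : K := ⟨x, subset_closure (by simp)⟩
  let bK : K := ⟨b, subset_closure (by simp)⟩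
  have hgen : closure {xK, bK} = (⊤ : Subgroup K) := by
    apply Subgroup.map_injective K.subtype_injective
    rw [MonoidHom.map_closure, Set.image_pair, ← MonoidHom.range_eq_map, range_subtype]
    rfl
  let σ : K →* Module.End (ZMod p) (ElabMod Bb hV) := ρ.comp (Subgroup.inclusion hKM)
  set yv := ι R.y R.hy.1 with hyv
  have hxy : σ xK yv = yv := (hfix _ R.y R.hy.1).mpr (R.hyT x hxT)
  -- the stabilizer of `y`
  let L : Subgroup G :=
    { carrier := {m | ∃ h : m ∈ R.M, ρ ⟨m, h⟩ yv = yv}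
      one_mem' := ⟨one_mem _, by rw [show (⟨1, _⟩ : R.M) = 1 from rfl, map_one]; rfl⟩
      mul_mem' := by
        rintro m n ⟨hm, hm'⟩ ⟨hn, hn'⟩
        refine ⟨mul_mem hm hn, ?_⟩
        rw [show (⟨m * n, _⟩ : R.M) = ⟨m, hm⟩ * ⟨n, hn⟩ from rfl, map_mul, Module.End.mul_apply,
          hn', hm']
      inv_mem' := by
        rintro m ⟨hm, hm'⟩
        refine ⟨inv_mem hm, ?_⟩
        conv_lhs => rw [← hm', ← Module.End.mul_apply, ← map_mul,
          show (⟨m⁻¹, inv_mem hm⟩ : R.M) * ⟨m, hm⟩ = 1 from Subtype.ext (inv_mul_cancel m), map_one,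
          Module.End.one_apply] }
  have hL : L ≤ R.M0 := by
    refine R.hmax L (fun t ht => ⟨R.hT.le ht, (hfix _ R.y R.hy.1).mpr (R.hyT t ht)⟩) (fun m hm => hm.1) ?_
    intro he
    obtain ⟨m, hm, hmy⟩ := R.hym
    obtain ⟨h, h'⟩ : m ∈ L := he ▸ hm
    exact hmy ((hfix ⟨m, h⟩ R.y R.hy.1).mp h')
  -- a Sylow subgroup of `K` containing `x`
  have hxp : IsPGroup p (zpowers xK) := by
    intro u
    obtain ⟨u, k, rfl⟩ := u
    obtain ⟨e, he⟩ := R.hT.isPGroup ⟨x ^ k, zpow_mem hxT k⟩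
    exact ⟨e, Subtype.ext (Subtype.ext (by simpa using congrArg Subtype.val he))⟩
  obtain ⟨SK, hSK⟩ := hxp.exists_le_sylow
  have hxSK : xK ∈ (SK : Subgroup K) := hSK (mem_zpowers _)
  obtain ⟨hS0, hN0⟩ := hsyl ((SK : Subgroup K).map K.subtype) (SK.2.map _)
    (map_subtype_le _) ⟨xK, hxSK, rfl⟩
  have hnu : ¬ ∀ g : K, ∃ j, ∀ k : K, σ (g ^ p ^ j) (σ k yv) = σ k yv := by
    intro hall
    let C : Subgroup K :=
      { carrier := {g | ∀ k, σ g (σ k yv) = σ k yv}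
        one_mem' := fun k => by rw [map_one]; rfl
        mul_mem' := fun {g g'} hg hg' k => by rw [map_mul, Module.End.mul_apply, hg' k, hg k]
        inv_mem' := fun {g} hg k => by
          conv_lhs => rw [← hg k, ← Module.End.mul_apply, ← map_mul, inv_mul_cancel, map_one,
            Module.End.one_apply] }
    haveI : C.Normal := ⟨fun g hg h k => by
      show σ (h * g * h⁻¹) (σ k yv) = _
      rw [map_mul, map_mul, Module.End.mul_apply, Module.End.mul_apply, ← Module.End.mul_apply (σ h⁻¹),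
        ← map_mul, hg, ← Module.End.mul_apply, ← map_mul, mul_inv_cancel_left]⟩
    refine hb0 (mem_subgroupOf.mp (le_of_sylowIn_of_mod (K := ⊤) (C := C) (M := R.M0.subgroupOf K)
      (isSylowIn_top SK) (fun g _ => (hall g).imp fun j hj => hj) ?_ ?_ (mem_top bK)))
    · exact fun s hs => hS0 ⟨s, hs, rfl⟩
    · rintro c ⟨-, hc⟩
      refine hL ⟨hKM c.2, ?_⟩
      have := hc 1
      rwa [map_one, Module.End.one_apply] at this
  obtain ⟨W', X'', wv, τ, hτ, hXW, hyW, hwW, hWinv, hXinv, hind, hxw, hτy, hτw⟩ :=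
    exists_torus hp σ xK bK hgen (hquad _ hxc) (hquad _ hbc) yv hxy hnu SK hxSK α
  obtain ⟨w, hw, rfl⟩ := ι_surj wv
  let pull : AddSubgroup (ElabMod Bb hV) → Subgroup G := fun U =>
    { carrier := {u | ∃ h : u ∈ R.B, ι u h ∈ U}
      one_mem' := ⟨one_mem _, by rw [(ι_zero 1 (one_mem _)).mpr (one_mem _)]; exact zero_mem _⟩
      mul_mem' := by
        rintro u v ⟨hu, hu'⟩ ⟨hv, hv'⟩
        exact ⟨mul_mem hu hv, ι_mul u v hu hv ▸ add_mem hu' hv'⟩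
      inv_mem' := by
        rintro u ⟨hu, hu'⟩
        exact ⟨inv_mem hu, ι_inv u hu ▸ neg_mem hu'⟩ }
  have hnorm : ∀ (k : K) (U : AddSubgroup (ElabMod Bb hV)), (∀ k, ∀ z ∈ U, σ k z ∈ U) →
      (k : G) ∈ normalizer (pull U : Set G) := by
    intro k U hU
    have key : ∀ k : K, ∀ u ∈ pull U, (k : G) * u * (k : G)⁻¹ ∈ pull U := by
      rintro k u ⟨hu, hu'⟩
      exact ⟨conjB _ (hKM k.2) u hu, ι_act ⟨k, hKM k.2⟩ u hu ▸ hU k _ hu'⟩
    rw [mem_normalizer_iff]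
    intro u
    refine ⟨key k u, fun h => ?_⟩
    simpa [mul_assoc] using key k⁻¹ _ h
  have ι_pow : ∀ u hu (n : ℕ), ι (u ^ n) (pow_mem hu n) = (n : ZMod p) • ι u hu := by
    intro u hu n
    induction n with
    | zero => rw [Nat.cast_zero, zero_smul]; exact (ι_zero _ (pow_mem hu 0)).mpr (by rw [pow_zero]; exact one_mem _)
    | succ n ih =>
      rw [Nat.cast_succ, add_smul, one_smul, ← ih, ← ι_mul _ _ (pow_mem hu n) hu]
      exact ι_congr _ _ (pow_mem hu (n + 1)) (mul_mem (pow_mem hu n) hu) (pow_succ u n)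
  have hmem : ∀ u (hu : u ∈ R.B) v, ι u hu = v → v ∈ X'' → u ∈ pull X'' :=
    fun u hu v h hv => ⟨hu, h ▸ hv⟩
  refine ⟨pull W', pull X'', w, x, (τ : G), fun u hu => ⟨R.hB0B hu, ?_⟩,
    fun u ⟨hu, hu'⟩ => ⟨hu, hXW hu'⟩, fun u hu => hu.1, ⟨R.hy.1, hyW⟩, ⟨hw, hwW⟩, hxT,
    hN0 ⟨τ.2, le_normalizer_map _ (mem_map_of_mem K.subtype hτ)⟩,
    hnorm xK W' hWinv, hnorm xK X'' hXinv, hnorm τ W' hWinv, hnorm τ X'' hXinv, ?_, ?_, ?_, ?_, ?_⟩
  · rw [(ι_zero u (R.hB0B hu)).mpr hu]; exact zero_mem _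
  · rintro s t ⟨hst, hst'⟩
    rw [ι_congr _ _ hst (mul_mem (pow_mem R.hy.1 s) (pow_mem hw t)) rfl, ι_mul _ _ (pow_mem R.hy.1 s) (pow_mem hw t), ι_pow _ R.hy.1, ι_pow _ hw] at hst'
    obtain ⟨h1, h2⟩ := hind _ _ hst'
    exact ⟨(ZMod.natCast_eq_zero_iff _ _).mp h1, (ZMod.natCast_eq_zero_iff _ _).mp h2⟩
  · refine ⟨mul_mem (conjB x hxM _ R.hy.1) (inv_mem R.hy.1), ?_⟩
    rw [ι_mul _ _ (conjB x hxM _ R.hy.1) (inv_mem R.hy.1), ι_inv _ R.hy.1,
      ← ι_act ⟨x, hxM⟩ _ R.hy.1]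
    rw [show ρ ⟨x, hxM⟩ (ι R.y R.hy.1) = ι R.y R.hy.1 from hxy, add_neg_cancel]
    exact zero_mem _
  · refine ⟨mul_mem (conjB x hxM _ hw) (inv_mem (mul_mem hw R.hy.1)), ?_⟩
    rw [ι_mul _ _ (conjB x hxM _ hw) (inv_mem (mul_mem hw R.hy.1)), ι_inv _ (mul_mem hw R.hy.1),
      ι_mul _ _ hw R.hy.1, ← ι_act ⟨x, hxM⟩ _ hw, ← sub_eq_add_neg]
    exact hxw
  · refine ⟨mul_mem (conjB τ (hKM τ.2) _ R.hy.1) (inv_mem (pow_mem R.hy.1 _)), ?_⟩
    rw [ι_mul _ _ (conjB τ (hKM τ.2) _ R.hy.1) (inv_mem (pow_mem R.hy.1 _)),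
      ι_inv _ (pow_mem R.hy.1 _), ι_pow _ R.hy.1, ← ι_act ⟨τ, hKM τ.2⟩ _ R.hy.1, ← sub_eq_add_neg,
      ZMod.natCast_zmod_val]
    exact hτy
  · refine ⟨mul_mem (conjB τ (hKM τ.2) _ hw) (inv_mem (pow_mem hw _)), ?_⟩
    rw [ι_mul _ _ (conjB τ (hKM τ.2) _ hw) (inv_mem (pow_mem hw _)),
      ι_inv _ (pow_mem hw _), ι_pow _ hw, ← ι_act ⟨τ, hKM τ.2⟩ _ hw, ← sub_eq_add_neg,
      ZMod.natCast_zmod_val]
    exact hτw

end CfsgLib.ZJFail
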