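import Cfsg.Agent.ZJFail.Linear
import Cfsg.Agent.ZJ.Alperin

/-!
The final configuration, and a pair of quadratic elements around a maximal intersection.
-/

set_option autoImplicit false

namespace CfsgLib.ZJFail

open Subgroup CfsgLib.ZJ CfsgLib.Functor
open scoped CfsgLib.Functor commutatorElement

variable {G : Type*} [Group G] [Finite G] {p : ℕ} [Fact p.Prime]

/-- A local subgroup `M` with a chief factor on which quadratic elements act, the stabilizer of a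
vector from `Z` being fused into `H`. -/
structure Ready (p : ℕ) (S H Z : Subgroup G) where
  M : Subgroup G
  T : Subgroup G
  P : Subgroup G
  B : Subgroup G
  B0 : Subgroup G
  M0 : Subgroup G
  fml : Set (Subgroup G)
  y : G
  hT : IsSylowIn p T M
  hTS : T ≤ S
  hPT : P ≤ T
  hMP : M ≤ normalizer (P : Set G)
  hBP : B ≤ P
  hB0B : B0 ≤ B
  hMB : M ≤ normalizer (B : Set G)
  hMB0 : M ≤ normalizer (B0 : Set G)
  hpow : ∀ b ∈ B, b ^ p ∈ B0
  hcen : ∀ b ∈ B, ∀ u ∈ P, ⁅b, u⁆ ∈ B0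
  hM0M : M0 ≤ M
  hM0ne : M0 ≠ M
  hTM0 : T ≤ M0
  hmax : ∀ L : Subgroup G, T ≤ L → L ≤ M → L ≠ M → L ≤ M0
  hfus : ∀ m ∈ M0, Fused H P m
  hM0Y : M0 ≤ normalizer ((B ⊓ Z : Subgroup G) : Set G)
  hcore : ∀ N : Subgroup G, N ≤ M → M ≤ normalizer (N : Set G) → IsPGroup p N → N ≤ P
  hy : y ∈ B ⊓ Z
  hy0 : y ∉ B0
  hyT : ∀ t ∈ T, ⁅t, y⁆ ∈ B0
  hym : ∃ m ∈ M, ⁅m, y⁆ ∉ B0
  hAT : ∀ A ∈ fml, A ≤ T
  hAne : ∃ A ∈ fml, ¬ A ≤ P
  hAconj : ∀ A ∈ fml, ∀ m ∈ M, m ⋆ A ≤ T → m ⋆ A ∈ fml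
  hquad : ∀ A ∈ fml, ∀ a ∈ A, ∀ b ∈ B, ⁅⁅b, a⁆, a⁆ ∈ B0

/-- A set generating more than `Q` inside a p-group, invariant under it, meets the normalizer of `Q`
outside `Q`. -/
theorem exists_normalizing {T : Subgroup G} (hT : IsPGroup p T) {E : Set G} (hE : E ⊆ T)
    (hEc : ∀ t ∈ T, ∀ e ∈ E, t * e * t⁻¹ ∈ E) {Q : Subgroup G} (hQ : Q ≤ closure (E ∩ Q))
    (hne : ¬ E ⊆ Q) : ∃ e ∈ E, e ∉ Q ∧ e ∈ normalizer (Q : Set G) := by
  by_contra hcon
  push Not at hcon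
  apply hne
  have hQT : Q ≤ T := hQ.trans ((closure_le _).mpr fun e he => hE he.1)
  set N := T ⊓ normalizer (Q : Set G) with hN
  have hEN : ∀ e ∈ E, e ∈ N → e ∈ Q := fun e he h => by_contra fun h' => hcon e he h' h.2
  suffices N = T by
    intro e he
    exact hEN e he (by rw [this]; exact hE he)
  by_contra hNT
  have hlt := lt_inf_normalizer hT (lt_of_le_of_ne inf_le_left hNT)
  refine hlt.not_ge ?_
  have key : ∀ g ∈ T ⊓ normalizer (N : Set G), ∀ q ∈ Q, g * q * g⁻¹ ∈ Q := by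
    intro g hg q hq
    have : closure (E ∩ Q) ≤ Q.comap (MulAut.conj g).toMonoidHom := by
      rw [closure_le]
      rintro e ⟨he, heQ⟩
      exact hEN _ (hEc g hg.1 e he)
        ((mem_normalizer_iff.mp hg.2 e).mp ⟨hE he, le_normalizer heQ⟩)
    exact this (hQ hq)
  intro g hg
  refine ⟨hg.1, mem_normalizer_iff.mpr fun q => ⟨key g hg q, fun h => ?_⟩⟩
  have := key g⁻¹ (inv_mem hg) _ h
  simpa [mul_assoc] using this

variable {S H Z : Subgroup G} (R : Ready p S H Z)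

/-- The conjugates of the quadratic elements. -/
def Ready.cls : Set G := {d | ∃ A ∈ R.fml, ∃ a ∈ A, ∃ m ∈ R.M, d = m * a * m⁻¹}

omit [Finite G] [Fact p.Prime] in
theorem Ready.cls_subset : R.cls ⊆ R.M := by
  rintro _ ⟨A, hA, a, ha, m, hm, rfl⟩
  exact mul_mem (mul_mem hm (R.hT.le (R.hAT A hA ha))) (inv_mem hm)

omit [Finite G] [Fact p.Prime] in
theorem Ready.cls_conj {g d : G} (hg : g ∈ R.M) (hd : d ∈ R.cls) : g * d * g⁻¹ ∈ R.cls := by
  obtain ⟨A, hA, a, ha, m, hm, rfl⟩ := hd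
  exact ⟨A, hA, a, ha, g * m, mul_mem hg hm, by group⟩

omit [Fact p.Prime] in
theorem Ready.mem_M0_of_cj_le {g : G} (hg : g ∈ R.M) (h : g ⋆ sSup R.fml ≤ R.M0) [Fact p.Prime] :
    g ∈ R.M0 := by
  set J := sSup R.fml with hJ
  have hJT : J ≤ R.T := sSup_le R.hAT
  have hTN : R.T ≤ normalizer (J : Set G) := by
    intro t ht
    rw [mem_normalizer_iff_cj]
    refine eq_of_le_of_card_le' ?_ (card_cj t J).ge
    rw [cj_le_iff']
    refine sSup_le fun A hA => cj_le_iff'.mp (le_sSup (R.hAconj A hA t (R.hT.le ht) ?_))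
    exact (cj_mono t (R.hAT A hA)).trans (cj_eq_self_of_mem ht).le
  have hNM0 : R.M ⊓ normalizer (J : Set G) ≤ R.M0 := by
    refine R.hmax _ (le_inf R.hT.le hTN) inf_le_left fun he => ?_
    obtain ⟨A, hA, hAP⟩ := R.hAne
    exact hAP ((le_sSup hA).trans (R.hcore J (hJT.trans R.hT.le) (inf_eq_left.mp he)
      (R.hT.isPGroup.to_le hJT)))
  obtain ⟨f, hf, hfle⟩ := (R.hT.of_le R.hTM0 R.hM0M).exists_cj_le
    (isPGroup_cj g (R.hT.isPGroup.to_le hJT)) h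
  rw [cj_cj] at hfle
  have hfg : f * g ∈ R.M0 := by
    refine hNM0 ⟨mul_mem (R.hM0M hf) hg, mem_normalizer_iff_cj.mpr
      (eq_of_le_of_card_le' ?_ (card_cj _ J).ge)⟩
    rw [cj_le_iff']
    refine sSup_le fun A hA => cj_le_iff'.mp (le_sSup (R.hAconj A hA _ (mul_mem (R.hM0M hf) hg) ?_))
    exact (cj_mono _ (le_sSup hA)).trans hfle
  simpa using mul_mem (inv_mem hf) hfg

/-- Two quadratic elements: every Sylow subgroup of the group they generate containing the first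
lies, with its normalizer, in `M0`, while the second is outside. -/
theorem Ready.exists_pair :
    ∃ x b : G, x ∈ R.cls ∧ x ∈ R.T ∧ b ∈ R.cls ∧ b ∉ R.M0 ∧
      ∀ SK : Subgroup G, IsPGroup p SK → SK ≤ closure {x, b} → x ∈ SK →
        SK ≤ R.M0 ∧ closure {x, b} ⊓ normalizer (SK : Set G) ≤ R.M0 := by
  classical
  let q : G → Subgroup G := fun g => closure (R.cls ∩ ↑(R.T ⊓ g ⋆ R.T))
  obtain ⟨g0, hg0M, hg0⟩ : ∃ g, g ∈ R.M ∧ g ∉ R.M0 := by
    by_contra hc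
    push Not at hc
    exact R.hM0ne (le_antisymm R.hM0M hc)
  obtain ⟨g, ⟨hgM, hg⟩, hmax⟩ := Set.exists_max_image {g | g ∈ R.M ∧ g ∉ R.M0}
    (fun g => Nat.card (q g)) (Set.toFinite _) ⟨g0, hg0M, hg0⟩
  set Q := q g with hQdef
  have hQT : Q ≤ R.T := (closure_le _).mpr fun d hd => hd.2.1
  have hQT' : Q ≤ g ⋆ R.T := (closure_le _).mpr fun d hd => hd.2.2
  -- maximality over all intersections with `M0`
  have hbound : ∀ g' ∈ R.M, g' ∉ R.M0 → ∀ X : Subgroup G, Q ≤ X → X ≤ R.M0 → X ≤ g' ⋆ R.T →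
      X ≤ closure (R.cls ∩ X) → X ≤ Q := by
    intro g' hg' hg'n X hQX hX0 hXT hXgen
    obtain ⟨f, hf, hfle⟩ := (R.hT.of_le R.hTM0 R.hM0M).exists_cj_le
      ((isPGroup_cj g' R.hT.isPGroup).to_le hXT) hX0
    have hn : f * g' ∉ R.M0 := fun h => hg'n (by simpa using mul_mem (inv_mem hf) h)
    have hle : f ⋆ X ≤ q (f * g') := by
      refine (cj_mono f hXgen).trans ?_
      rw [MonoidHom.map_closure, closure_le]
      rintro _ ⟨d, ⟨hd, hdX⟩, rfl⟩
      refine subset_closure ⟨R.cls_conj (R.hM0M hf) hd, hfle (conj_mem_cj hdX), ?_⟩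
      have := conj_mem_cj (g := f) (hXT hdX)
      rwa [cj_cj] at this
    have h1 := hmax (f * g') ⟨mul_mem (R.hM0M hf) hg', hn⟩
    have h2 : Nat.card X ≤ Nat.card (q (f * g')) := (card_cj f X).symm.trans_le (card_le_of_le hle)
    exact (eq_of_le_of_card_le' hQX (h2.trans h1)).ge
  have hQgen : ∀ X : Subgroup G, Q ≤ X → Q ≤ closure (R.cls ∩ X) := fun X hX =>
    (closure_le _).mpr fun d hd => subset_closure ⟨hd.1, hX (subset_closure hd)⟩
  have hmemcls : ∀ A ∈ R.fml, ∀ a ∈ A, ∀ m ∈ R.M, m * a * m⁻¹ ∈ R.cls :=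
    fun A hA a ha m hm => ⟨A, hA, a, ha, m, hm, rfl⟩
  -- the element `x`
  obtain ⟨x, ⟨hxc, hxT⟩, hxQ, hxN⟩ := exists_normalizing R.hT.isPGroup (E := R.cls ∩ R.T)
    (fun _ h => h.2)
    (fun t ht e he => ⟨R.cls_conj (R.hT.le ht) he.1, mul_mem (mul_mem ht he.2) (inv_mem ht)⟩)
    (Q := Q) ((hQgen Q le_rfl).trans (Subgroup.closure_mono fun d hd => ⟨⟨hd.1, hQT hd.2⟩, hd.2⟩))
    (by
      intro h
      refine hg ((inv_mem_iff (x := g)).mp (R.mem_M0_of_cj_le (inv_mem hgM) ?_))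
      refine le_trans ?_ R.hTM0
      rw [cj_le_iff', inv_inv]
      exact sSup_le fun A hA a ha => hQT' (h ⟨by simpa using hmemcls A hA a ha 1 (one_mem _),
        R.hAT A hA ha⟩))
  -- the element `b`
  have hgT : IsPGroup p ↥(g ⋆ R.T) := isPGroup_cj g R.hT.isPGroup
  obtain ⟨b, ⟨hbc, hbT⟩, hbQ, hbN⟩ := exists_normalizing hgT
    (E := R.cls ∩ (g ⋆ R.T : Subgroup G)) (fun _ h => h.2)
    (fun t ht e he => ⟨R.cls_conj ((cj_le_iff.mpr fun u hu =>
        mul_mem (mul_mem hgM (R.hT.le hu)) (inv_mem hgM) : g ⋆ R.T ≤ R.M) ht) he.1,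
      mul_mem (mul_mem ht he.2) (inv_mem ht)⟩)
    (Q := Q) ((hQgen Q le_rfl).trans (Subgroup.closure_mono fun d hd => ⟨⟨hd.1, hQT' hd.2⟩, hd.2⟩))
    (by
      intro h
      refine hg (R.mem_M0_of_cj_le hgM ?_)
      refine le_trans ?_ (hQT.trans R.hTM0)
      rw [cj_le_iff']
      refine sSup_le fun A hA a ha => mem_cj.mpr ?_
      rw [inv_inv]
      exact h ⟨hmemcls A hA a ha g hgM, conj_mem_cj (R.hAT A hA ha)⟩)
  have hbM0 : b ∉ R.M0 := by
    intro hb0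
    refine hbQ (hbound g hgM hg (Q ⊔ zpowers b) le_sup_left
      (sup_le (hQT.trans R.hTM0) (zpowers_le.mpr hb0)) (sup_le hQT' (zpowers_le.mpr hbT)) ?_
      (mem_sup_right (mem_zpowers b)))
    exact sup_le (hQgen _ le_sup_left)
      (zpowers_le.mpr (subset_closure ⟨hbc, mem_sup_right (mem_zpowers b)⟩))
  have key : ∀ k ∈ R.M, k ∈ normalizer (Q : Set G) → k⁻¹ * x * k ∈ R.M0 → k ∈ R.M0 := by
    intro k hk hkQ hx0
    by_contra hk0
    have hkc : k⁻¹ * x * k ∈ R.cls := by simpa using R.cls_conj (inv_mem hk) hxc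
    have hXT : Q ⊔ zpowers (k⁻¹ * x * k) ≤ k⁻¹ ⋆ R.T := by
      refine sup_le ?_ (zpowers_le.mpr (mem_cj.mpr (by simpa [mul_assoc] using hxT)))
      intro u hu
      rw [mem_cj, inv_inv]
      exact hQT ((mem_normalizer_iff.mp hkQ u).mp hu)
    have h1 := hbound k⁻¹ (inv_mem hk) (fun h => hk0 ((inv_mem_iff (x := k)).mp h)) _ le_sup_left
      (sup_le (hQT.trans R.hTM0) (zpowers_le.mpr hx0)) hXT
      (sup_le (hQgen _ le_sup_left)
        (zpowers_le.mpr (subset_closure ⟨hkc, mem_sup_right (mem_zpowers _)⟩)))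
      (mem_sup_right (mem_zpowers _))
    refine hxQ ?_
    have := (mem_normalizer_iff.mp hkQ _).mp h1
    simpa [mul_assoc] using this
  refine ⟨x, b, hxc, hxT, hbc, hbM0, fun SK hSK hSKle hxSK => ?_⟩
  have hKN : closure {x, b} ≤ normalizer (Q : Set G) :=
    (closure_le _).mpr (by rintro u (rfl | rfl); exacts [hxN, hbN])
  have hKM : closure {x, b} ≤ R.M :=
    (closure_le _).mpr (by rintro u (rfl | rfl); exacts [R.cls_subset hxc, R.cls_subset hbc])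
  have hS0 : SK ≤ R.M0 := by
    have hp' : IsPGroup p ↥(SK ⊔ Q) :=
      IsPGroup.to_sup_of_normal_right' hSK (R.hT.isPGroup.to_le hQT) (hSKle.trans hKN)
    obtain ⟨h, hh, hle⟩ := R.hT.exists_cj_le hp'
      (sup_le (hSKle.trans hKM) (hQT.trans R.hT.le))
    rw [cj_le_iff'] at hle
    have hh0 : h⁻¹ ∈ R.M0 := by
      by_contra hh0
      refine hxQ (hbound h⁻¹ (inv_mem hh) hh0 (Q ⊔ zpowers x) le_sup_left
        (sup_le (hQT.trans R.hTM0) (zpowers_le.mpr (R.hTM0 hxT)))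
        (sup_le (le_sup_right.trans hle) (zpowers_le.mpr (hle (mem_sup_left hxSK)))) ?_
        (mem_sup_right (mem_zpowers x)))
      exact sup_le (hQgen _ le_sup_left)
        (zpowers_le.mpr (subset_closure ⟨hxc, mem_sup_right (mem_zpowers x)⟩))
    refine (le_sup_left.trans hle).trans ?_
    rw [cj_le_iff]
    exact fun u hu => mul_mem (mul_mem hh0 (R.hTM0 hu)) (inv_mem hh0)
  refine ⟨hS0, fun k hk => key k (hKM hk.1) (hKN hk.1) (hS0 ?_)⟩
  have := (mem_normalizer_iff.mp (inv_mem hk.2) x).mp hxSK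
  simpa using this

end CfsgLib.ZJFail
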