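import Cfsg.Agent.ZJFail.Concl
import Cfsg.Agent.ZJFail.Members
import Cfsg.Agent.Solvable.PGroupBasic

/-!
From a chief series below `P` to the final configuration.
-/

set_option autoImplicit false

namespace CfsgLib.ZJFail

open Subgroup CfsgLib.ZJ CfsgLib.Functor
open scoped CfsgLib.Functor commutatorElement

variable {G : Type*} [Group G]

/-- The kernel of the action of `M` on `B / B0`. -/
def cK (M B B0 : Subgroup G) (hB : M ≤ normalizer (B : Set G)) (h0 : M ≤ normalizer (B0 : Set G)) :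
    Subgroup G where
  carrier := {m | m ∈ M ∧ ∀ b ∈ B, ⁅m, b⁆ ∈ B0}
  one_mem' := ⟨one_mem _, fun b _ => by rw [commutatorElement_one_left]; exact one_mem _⟩
  mul_mem' := by
    rintro m n ⟨hm, hm'⟩ ⟨hn, hn'⟩
    refine ⟨mul_mem hm hn, fun b hb => ?_⟩
    rw [show ⁅m * n, b⁆ = m * ⁅n, b⁆ * m⁻¹ * ⁅m, b⁆ by simp only [commutatorElement_def]; group]
    exact mul_mem ((mem_normalizer_iff.mp (h0 hm) _).mp (hn' b hb)) (hm' b hb)
  inv_mem' := by
    rintro m ⟨hm, hm'⟩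
    refine ⟨inv_mem hm, fun b hb => ?_⟩
    rw [show ⁅m⁻¹, b⁆ = (m⁻¹ * ⁅m, b⁆ * m⁻¹⁻¹)⁻¹ by simp only [commutatorElement_def]; group]
    exact inv_mem ((mem_normalizer_iff.mp (h0 (inv_mem hm)) _).mp (hm' b hb))

theorem cK_normalized {M B B0 : Subgroup G} (hB : M ≤ normalizer (B : Set G))
    (h0 : M ≤ normalizer (B0 : Set G)) : M ≤ normalizer (cK M B B0 hB h0 : Set G) := by
  have key : ∀ g ∈ M, ∀ m ∈ cK M B B0 hB h0, g * m * g⁻¹ ∈ cK M B B0 hB h0 := by
    rintro g hg m ⟨hm, hm'⟩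
    refine ⟨mul_mem (mul_mem hg hm) (inv_mem hg), fun b hb => ?_⟩
    rw [show ⁅g * m * g⁻¹, b⁆ = g * ⁅m, g⁻¹ * b * g⁻¹⁻¹⁆ * g⁻¹ by
      simp only [commutatorElement_def]; group]
    exact (mem_normalizer_iff.mp (h0 hg) _).mp
      (hm' _ ((mem_normalizer_iff.mp (hB (inv_mem hg)) b).mp hb))
  intro g hg
  rw [mem_normalizer_iff]
  intro m
  refine ⟨key g hg m, fun h => ?_⟩
  simpa [mul_assoc] using key g⁻¹ (inv_mem hg) _ h

variable [Finite G] {p : ℕ} [Fact p.Prime]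

/-- Relative form of `le_of_sylowIn_of_mod`. -/
theorem le_of_mod_in {M T K C L : Subgroup G} (hT : IsSylowIn p T M) (hKM : K ≤ M)
    (hMK : M ≤ normalizer (K : Set G)) (hMC : M ≤ normalizer (C : Set G))
    (hK : ∀ x ∈ K, ∃ k, x ^ p ^ k ∈ C) (hTL : T ⊓ K ≤ L) (hCL : K ⊓ C ≤ L) : K ≤ L := by
  haveI : (C.subgroupOf M).Normal := normal_subgroupOf_of_le_normalizer hMC
  have h := hT.inf_normal hKM hMK
  have hle := le_of_sylowIn_of_mod (K := K.subgroupOf M) (T := (T ⊓ K).subgroupOf M)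
    (C := C.subgroupOf M) (M := L.subgroupOf M) (p := p)
    ⟨comap_mono h.1, h.2.1.of_equiv (subgroupOfEquivOfLe (h.1.trans hKM)).symm,
      by rw [relIndex_subgroupOf hKM]; exact h.2.2⟩
    (fun x hx => (hK x (mem_subgroupOf.mp hx)).imp fun k hk => mem_subgroupOf.mpr (by simpa using hk))
    (comap_mono hTL) (fun x hx => hCL ⟨hx.1, hx.2⟩)
  exact fun x hx => mem_subgroupOf.mp (hle (x := ⟨x, hKM hx⟩) (mem_subgroupOf.mpr hx))

/-- The subgroup generated by `E`, the commutators with `P` and the `p`-th powers. -/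
def base0 (p : ℕ) (E B P : Subgroup G) : Subgroup G :=
  E ⊔ ⁅B, P⁆ ⊔ closure {x | ∃ b ∈ B, x = b ^ p}

theorem base0_le {E B P : Subgroup G} (hEB : E ≤ B) (hP : P ≤ normalizer (B : Set G)) :
    base0 p E B P ≤ B := by
  refine sup_le (sup_le hEB (commutator_le.mpr fun b hb u hu => ?_)) ((closure_le _).mpr ?_)
  · rw [commutatorElement_def, show b * u * b⁻¹ * u⁻¹ = b * (u * b⁻¹ * u⁻¹) by group]
    exact mul_mem hb ((mem_normalizer_iff.mp (hP hu) _).mp (inv_mem hb))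
  · rintro _ ⟨b, hb, rfl⟩
    exact pow_mem hb p

theorem base0_normalized {E B P M : Subgroup G} (hE : M ≤ normalizer (E : Set G))
    (hB : M ≤ normalizer (B : Set G)) (hP : M ≤ normalizer (P : Set G)) :
    M ≤ normalizer (base0 p E B P : Set G) := by
  intro m hm
  rw [mem_normalizer_iff_cj]
  rw [base0, Subgroup.map_sup, Subgroup.map_sup, map_commutator, mem_normalizer_iff_cj.mp (hE hm),
    mem_normalizer_iff_cj.mp (hB hm), mem_normalizer_iff_cj.mp (hP hm), MonoidHom.map_closure]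
  congr 2
  ext x
  constructor
  · rintro ⟨_, ⟨b, hb, rfl⟩, rfl⟩
    exact ⟨m * b * m⁻¹, (mem_normalizer_iff.mp (hB hm) b).mp hb, by simp [conj_pow]⟩
  · rintro ⟨b, hb, rfl⟩
    refine ⟨_, ⟨m⁻¹ * b * m⁻¹⁻¹, (mem_normalizer_iff.mp (hB (inv_mem hm)) b).mp hb, rfl⟩, ?_⟩
    show m * (m⁻¹ * b * m⁻¹⁻¹) ^ p * m⁻¹ = b ^ p
    rw [← conj_pow]
    group

/-- A subgroup normalized by a p-group `P` and supplementing `[B, P]` and the `p`-th powers in
`B` is `B`. -/
theorem le_of_le_sup_base0 {E B P X : Subgroup G} (hP : IsPGroup p P) (hBP : B ≤ P)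
    (hPB : P ≤ normalizer (B : Set G)) (hPX : P ≤ normalizer (X : Set G)) (hXB : X ≤ B) (hEX : E ≤ X)
    (h : B ≤ X ⊔ base0 p E B P) : B ≤ X := by
  by_contra hne
  obtain ⟨K, ⟨hXK, hKB, hKn⟩, hmax⟩ := Set.exists_max_image
    {K : Subgroup G | X ≤ K ∧ K < B ∧ P ≤ normalizer (K : Set G)} (fun K => Nat.card K)
    (Set.toFinite _) ⟨X, le_rfl, lt_of_le_not_ge hXB hne, hPX⟩
  haveI : (K.subgroupOf P).Normal := normal_subgroupOf_of_le_normalizer hKn
  haveI : (B.subgroupOf P).Normal := normal_subgroupOf_of_le_normalizer hPB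
  let q := QuotientGroup.mk' (K.subgroupOf P)
  haveI : ((B.subgroupOf P).map q).Normal := Normal.map ‹_› q (QuotientGroup.mk'_surjective _)
  have hne1 : (B.subgroupOf P).map q ≠ ⊥ := by
    intro hb
    rw [Subgroup.map_eq_bot_iff, QuotientGroup.ker_mk'] at hb
    exact hKB.not_ge fun b hb' => mem_subgroupOf.mp (hb (x := ⟨b, hBP hb'⟩) (mem_subgroupOf.mpr hb'))
  have hq : IsPGroup p (P ⧸ K.subgroupOf P) := hP.to_quotient _
  haveI := hq.isNilpotent
  obtain ⟨k, hk⟩ := (hq.to_subgroup ((B.subgroupOf P).map q ⊓ center _)).exists_card_eq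
  have hk0 : k ≠ 0 := fun h0 => PGroupBasic.inf_center_ne_bot _ hne1
    (eq_bot_of_card_eq _ (by rw [hk, h0, pow_zero]))
  obtain ⟨⟨zb, hzB, hzc⟩, hz⟩ :=
    exists_prime_orderOf_dvd_card' (G := ↥((B.subgroupOf P).map q ⊓ center _)) p (hk ▸ dvd_pow_self p hk0)
  obtain ⟨⟨z, hzP⟩, hzB', rfl⟩ := hzB
  rw [← orderOf_coe] at hz
  have hzp : z ^ p ∈ K := by
    have h1 : q ⟨z, hzP⟩ ^ p = 1 := by rw [← hz]; exact pow_orderOf_eq_one _
    rw [← map_pow] at h1
    simpa using mem_subgroupOf.mp ((QuotientGroup.eq_one_iff _).mp h1)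
  have hzK : z ∉ K := fun h => (Fact.out : p.Prime).one_lt.ne' (hz.symm.trans
    (orderOf_eq_one_iff.mpr ((QuotientGroup.eq_one_iff _).mpr (mem_subgroupOf.mpr h))))
  have hzcen : ∀ u ∈ P, ⁅z, u⁆ ∈ K := fun u hu => by
    have h1 := mem_center_iff.mp hzc (q ⟨u, hu⟩)
    have h2 : q ⁅(⟨z, hzP⟩ : P), ⟨u, hu⟩⁆ = 1 := by
      rw [map_commutatorElement, commutatorElement_eq_one_iff_mul_comm]; exact h1.symm
    exact mem_subgroupOf.mp ((QuotientGroup.eq_one_iff _).mp h2)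
  have hzK' : zpowers z ≤ normalizer (K : Set G) := zpowers_le.mpr (hKn hzP)
  have hK1 : P ≤ normalizer ((K ⊔ zpowers z : Subgroup G) : Set G) := by
    intro u hu
    refine mem_normalizer_iff_cj.mpr (eq_of_le_of_card_le' ?_ (card_cj u _).ge)
    rw [Subgroup.map_sup, MonoidHom.map_zpowers]
    refine sup_le ((mem_normalizer_iff_cj.mp (hKn hu)).le.trans le_sup_left) (zpowers_le.mpr ?_)
    show u * z * u⁻¹ ∈ _
    rw [show u * z * u⁻¹ = (⁅z, u⁆)⁻¹ * z by simp only [commutatorElement_def]; group]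
    exact mul_mem (inv_mem (mem_sup_left (hzcen u hu))) (mem_sup_right (mem_zpowers z))
  have hzB : z ∈ B := mem_subgroupOf.mp hzB'
  have hlt : Nat.card K < Nat.card ↥(K ⊔ zpowers z) :=
    Solvable.card_lt_of_lt (lt_of_le_of_ne le_sup_left fun he => hzK
      (he.symm ▸ mem_sup_right (mem_zpowers z)))
  have hKeq : K ⊔ zpowers z = B := by
    by_contra hne'
    exact (hmax _ ⟨hXK.trans le_sup_left,
      lt_of_le_of_ne (sup_le hKB.le (zpowers_le.mpr hzB)) hne', hK1⟩).not_gt hlt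
  -- `B / K` is central of exponent `p`
  have hb : ∀ b ∈ B, b ^ p ∈ K ∧ ∀ u ∈ P, ⁅b, u⁆ ∈ K := by
    intro b hb
    rw [← hKeq] at hb
    rw [sup_comm] at hb
    obtain ⟨d, hd, c, hc, rfl⟩ := (Solvable.mem_sup_of_le_normalizer hzK').mp hb
    obtain ⟨i, rfl⟩ := mem_zpowers_iff.mp hd
    have hcP : c ∈ P := hBP (hKB.le hc)
    have hqb : q (⟨z ^ i, zpow_mem hzP i⟩ * ⟨c, hcP⟩) = q ⟨z, hzP⟩ ^ i := by
      rw [map_mul, show q ⟨c, hcP⟩ = 1 from (QuotientGroup.eq_one_iff _).mpr (mem_subgroupOf.mpr hc),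
        mul_one, ← map_zpow]
      rfl
    refine ⟨?_, fun u hu => ?_⟩
    · have h1 : q ((⟨z ^ i, zpow_mem hzP i⟩ * ⟨c, hcP⟩ : P) ^ p) = 1 := by
        rw [map_pow, hqb, ← zpow_natCast, ← zpow_mul, mul_comm, zpow_mul, zpow_natCast,
          show q ⟨z, hzP⟩ ^ p = 1 by rw [← hz]; exact pow_orderOf_eq_one _, one_zpow]
      simpa using mem_subgroupOf.mp ((QuotientGroup.eq_one_iff _).mp h1)
    · have h1 : q ⁅(⟨z ^ i, zpow_mem hzP i⟩ * ⟨c, hcP⟩ : P), ⟨u, hu⟩⁆ = 1 := by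
        rw [map_commutatorElement, hqb, commutatorElement_eq_one_iff_mul_comm]
        exact ((show Commute (q ⟨u, hu⟩) (q ⟨z, hzP⟩) from mem_center_iff.mp hzc _).zpow_right i).eq.symm
      exact mem_subgroupOf.mp ((QuotientGroup.eq_one_iff _).mp h1)
  exact hKB.not_ge (h.trans (sup_le hXK (sup_le (sup_le (hEX.trans hXK)
    (commutator_le.mpr fun b hb' u hu => (hb b hb').2 u hu))
    ((closure_le _).mpr (by rintro _ ⟨b, hb', rfl⟩; exact (hb b hb').1)))))

/-- A p-group fixes a nontrivial element of a normalized section. -/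
theorem exists_fixed {T Y B0 : Subgroup G} (hT : IsPGroup p T) (hYT : Y ≤ T) (h0T : B0 ≤ T)
    (hTY : T ≤ normalizer (Y : Set G)) (hT0 : T ≤ normalizer (B0 : Set G)) (hne : ¬ Y ≤ B0) :
    ∃ y ∈ Y, y ∉ B0 ∧ ∀ t ∈ T, ⁅t, y⁆ ∈ B0 := by
  haveI : (B0.subgroupOf T).Normal := normal_subgroupOf_of_le_normalizer hT0
  haveI : (Y.subgroupOf T).Normal := normal_subgroupOf_of_le_normalizer hTY
  let q := QuotientGroup.mk' (B0.subgroupOf T)
  haveI : ((Y.subgroupOf T).map q).Normal := Normal.map ‹_› q (QuotientGroup.mk'_surjective _)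
  have hne1 : (Y.subgroupOf T).map q ≠ ⊥ := by
    intro hb
    rw [Subgroup.map_eq_bot_iff, QuotientGroup.ker_mk'] at hb
    exact hne fun b hb' => mem_subgroupOf.mp (hb (x := ⟨b, hYT hb'⟩) (mem_subgroupOf.mpr hb'))
  haveI := (hT.to_quotient (B0.subgroupOf T)).isNilpotent
  obtain ⟨_, ⟨⟨⟨z, hzT⟩, hzY, rfl⟩, hzc⟩, hz1⟩ :=
    (bot_or_exists_ne_one _).resolve_left (PGroupBasic.inf_center_ne_bot _ hne1)
  refine ⟨z, mem_subgroupOf.mp hzY, fun h => hz1 ((QuotientGroup.eq_one_iff _).mpr (mem_subgroupOf.mpr h)),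
    fun t ht => ?_⟩
  have h2 : q ⁅(⟨t, ht⟩ : T), ⟨z, hzT⟩⁆ = 1 := by
    rw [map_commutatorElement, commutatorElement_eq_one_iff_mul_comm]
    exact mem_center_iff.mp hzc _
  exact mem_subgroupOf.mp ((QuotientGroup.eq_one_iff _).mp h2)

/-- The final configuration from a section `B / base0` on which the kernel fixes `Z ∩ P`. -/
theorem concl_of_section (hp : p ≠ 2) {S H Z E M T P B : Subgroup G} (hS : IsPGroup p S) (hSH : S ≤ H)
    (hSZ : S ≤ normalizer (Z : Set G)) (hZc : ∀ u ∈ Z, ∀ v ∈ Z, u * v = v * u)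
    (hE : E.Normal) (hT : IsSylowIn p T M) (hTS : T ≤ S) (hPT : P ≤ T)
    (hMP : M ≤ normalizer (P : Set G)) (hU : ¬ M ≤ normalizer ((Z ⊓ P : Subgroup G) : Set G))
    (hfus : ∀ L : Subgroup G, T ≤ L → L ≤ M → L ≠ M →
      L ≤ normalizer ((Z ⊓ P : Subgroup G) : Set G) ∧ ∀ l ∈ L, Fused H P l)
    (hcore : ∀ N : Subgroup G, N ≤ M → M ≤ normalizer (N : Set G) → IsPGroup p N → N ≤ P)
    (hBP : B ≤ P) (hMB : M ≤ normalizer (B : Set G)) (hEB : E ≤ B)
    (hC : ∀ h0, cK M B (base0 p E B P) hMB h0 ≤ normalizer ((Z ⊓ P : Subgroup G) : Set G))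
    (hn : M ≤ normalizer (((B ⊓ Z) ⊔ base0 p E B P : Subgroup G) : Set G) →
      (B ⊓ Z) ⊔ base0 p E B P = B)
    (hA : ∃ A ∈ fam (Mem E) T, ¬ A ≤ P ∧ B ≤ normalizer (A : Set G)) : Concl p H Z := by
  set U := Z ⊓ P with hUdef
  set M0 := M ⊓ normalizer (U : Set G) with hM0
  set Y := B ⊓ Z with hY
  have hTM : T ≤ M := hT.le
  have hTU : T ≤ normalizer (U : Set G) := fun t ht => mem_normalizer_iff.mpr fun u =>
    and_congr (mem_normalizer_iff.mp (hSZ (hTS ht)) u) (mem_normalizer_iff.mp (hMP (hTM ht)) u)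
  have hM0ne : M0 ≠ M := fun he => hU (fun m hm => (he.ge hm).2)
  have hM0Y : M0 ≤ normalizer (Y : Set G) := by
    intro m hm
    rw [show Y = B ⊓ U by rw [hY, hUdef, inf_comm Z P, ← inf_assoc, inf_eq_left.mpr hBP]]
    exact mem_normalizer_iff.mpr fun u => and_congr (mem_normalizer_iff.mp (hMB hm.1) u)
      (mem_normalizer_iff.mp hm.2 u)
  have hEn : M ≤ normalizer (E : Set G) := by rw [normalizer_eq_top (H := E)]; exact le_top
  have hb0 : M ≤ normalizer (base0 p E B P : Set G) := base0_normalized hEn hMB hMP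
  obtain ⟨B0, ⟨hB0b, hB0B, h0, hC0, hn0⟩, hmax⟩ := Set.exists_max_image
    {B0 : Subgroup G | base0 p E B P ≤ B0 ∧ B0 ≤ B ∧ ∃ h0 : M ≤ normalizer (B0 : Set G),
      cK M B B0 hMB h0 ≤ normalizer (U : Set G) ∧ (M ≤ normalizer ((Y ⊔ B0 : Subgroup G) : Set G) →
        Y ⊔ B0 = B)}
    (fun B0 => Nat.card B0) (Set.toFinite _)
    ⟨_, le_rfl, base0_le hEB ((hPT.trans hTM).trans hMB), hb0, hC hb0, hn⟩
  have hYB0 : ¬ Y ≤ B0 := by
    intro hle
    have he : Y ⊔ B0 = B0 := sup_eq_right.mpr hle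
    rw [he] at hn0
    refine hU fun m hm => hC0 ⟨hm, fun b hb => ?_⟩
    rw [commutatorElement_def, hn0 h0]
    exact B.mul_mem ((mem_normalizer_iff.mp (hMB hm) b).mp hb) (B.inv_mem hb)
  obtain ⟨y, hy, hy0, hyT⟩ := exists_fixed hT.isPGroup (inf_le_left.trans (hBP.trans hPT))
    ((hB0B.trans hBP).trans hPT) ((le_inf hTM hTU).trans hM0Y) (hTM.trans h0) hYB0
  have hpow : ∀ b ∈ B, b ^ p ∈ B0 := fun b hb =>
    hB0b (mem_sup_right (subset_closure ⟨b, hb, rfl⟩))
  have hcen : ∀ b ∈ B, ∀ u ∈ P, ⁅b, u⁆ ∈ B0 := fun b hb u hu =>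
    hB0b (mem_sup_left (mem_sup_right (commutator_mem_commutator hb hu)))
  have hEB0 : E ≤ B0 := (le_sup_left.trans le_sup_left).trans hB0b
  have hym : ∃ m ∈ M, ⁅m, y⁆ ∉ B0 := by
    by_contra hcon
    push Not at hcon
    set B1 := B0 ⊔ zpowers y with hB1
    have h1 : M ≤ normalizer (B1 : Set G) := by
      intro m hm
      refine mem_normalizer_iff_cj.mpr (eq_of_le_of_card_le' ?_ (card_cj m _).ge)
      rw [Subgroup.map_sup, MonoidHom.map_zpowers]
      refine sup_le ((mem_normalizer_iff_cj.mp (h0 hm)).le.trans le_sup_left) (zpowers_le.mpr ?_)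
      show m * y * m⁻¹ ∈ B1
      rw [show m * y * m⁻¹ = ⁅m, y⁆ * y by simp only [commutatorElement_def]; group]
      exact mul_mem (mem_sup_left (hcon m hm)) (mem_sup_right (mem_zpowers y))
    have hC1 : cK M B B1 hMB h1 ≤ normalizer (U : Set G) := by
      refine le_trans (le_of_mod_in (C := cK M B B0 hMB h0) (L := M0) hT (fun m hm => hm.1)
        (cK_normalized hMB h1) (cK_normalized hMB h0) (fun m hm => ⟨1, ?_⟩)
        (inf_le_left.trans (le_inf hTM hTU)) (fun m hm => ⟨hm.1.1, hC0 hm.2⟩)) inf_le_right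
      refine ⟨pow_mem hm.1 _, fun b hb => ?_⟩
      set d := ⁅m, b⁆ with hd
      have hdB : d ∈ B := mul_mem ((mem_normalizer_iff.mp (hMB hm.1) b).mp hb) (inv_mem hb)
      have hdc : ⁅m, d⁆ ∈ B0 := by
        obtain ⟨u, hu, c, hc, hcd⟩ := (Solvable.mem_sup_of_le_normalizer
          (zpowers_le.mpr (h0 ((hBP.trans (hPT.trans hTM)) hy.1)) : zpowers y ≤ normalizer (B0 : Set G))).mp
          (by rw [sup_comm]; exact hm.2 b hb)
        obtain ⟨i, rfl⟩ := mem_zpowers_iff.mp hu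
        haveI : (B0.subgroupOf M).Normal := normal_subgroupOf_of_le_normalizer h0
        let q := QuotientGroup.mk' (B0.subgroupOf M)
        have hyM : y ∈ M := hTM (hPT (hBP hy.1))
        have hcM : c ∈ M := hTM (hPT (hBP (hB0B hc)))
        have h2 : q ⁅(⟨m, hm.1⟩ : M), ⟨y, hyM⟩ ^ i * ⟨c, hcM⟩⁆ = 1 := by
          rw [map_commutatorElement, map_mul, map_zpow,
            show q ⟨c, hcM⟩ = 1 from (QuotientGroup.eq_one_iff _).mpr (mem_subgroupOf.mpr hc), mul_one,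
            commutatorElement_eq_one_iff_mul_comm]
          have h3 : q ⁅(⟨m, hm.1⟩ : M), ⟨y, hyM⟩⁆ = 1 :=
            (QuotientGroup.eq_one_iff _).mpr (mem_subgroupOf.mpr (hcon m hm.1))
          rw [map_commutatorElement, commutatorElement_eq_one_iff_mul_comm] at h3
          exact ((show Commute _ _ from h3).zpow_right i).eq
        have h4 := mem_subgroupOf.mp ((QuotientGroup.eq_one_iff _).mp h2)
        rw [show d = y ^ i * c from hcd.symm]
        exact h4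
      -- `m ^ j` moves `b` by `d ^ j`
      have hj : ∀ j : ℕ, ⁅m ^ j, b⁆ * (d ^ j)⁻¹ ∈ B0 := by
        intro j
        induction j with
        | zero => simp
        | succ j ih =>
          have hmj : m ^ j ∈ M := pow_mem hm.1 j
          haveI : (B0.subgroupOf M).Normal := normal_subgroupOf_of_le_normalizer h0
          let q := QuotientGroup.mk' (B0.subgroupOf M)
          let mm : M := ⟨m, hm.1⟩
          let bb : M := ⟨b, hTM (hPT (hBP hb))⟩
          have hc : Commute (q mm) (q ⁅mm, bb⁆) := by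
            rw [commute_iff_eq, ← commutatorElement_eq_one_iff_mul_comm, ← map_commutatorElement]
            exact (QuotientGroup.eq_one_iff _).mpr (mem_subgroupOf.mpr hdc)
          have h5 : q (⁅mm ^ j, bb⁆ * (⁅mm, bb⁆ ^ j)⁻¹) = 1 :=
            (QuotientGroup.eq_one_iff _).mpr (mem_subgroupOf.mpr ih)
          rw [map_mul, map_inv, map_pow, mul_inv_eq_one] at h5
          have h6 : q (⁅mm ^ (j + 1), bb⁆ * (⁅mm, bb⁆ ^ (j + 1))⁻¹) = 1 := by
            rw [show ⁅mm ^ (j + 1), bb⁆ = mm * ⁅mm ^ j, bb⁆ * mm⁻¹ * ⁅mm, bb⁆ by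
                simp only [commutatorElement_def]; group,
              map_mul, map_mul, map_mul, map_mul, h5, map_inv, map_inv, map_pow,
              (hc.pow_right j).eq, mul_inv_cancel_right, ← pow_succ, mul_inv_cancel]
          exact mem_subgroupOf.mp ((QuotientGroup.eq_one_iff _).mp h6)
      have := mul_mem (hj (p ^ 1)) (show d ^ p ^ 1 ∈ B0 by rw [pow_one]; exact hpow d hdB)
      rwa [inv_mul_cancel_right] at this
    have hlt : Nat.card B0 < Nat.card B1 := Solvable.card_lt_of_lt (lt_of_le_of_ne le_sup_left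
      fun he => hy0 (he.symm ▸ mem_sup_right (mem_zpowers y)))
    refine (hmax B1 ⟨hB0b.trans le_sup_left, sup_le hB0B (zpowers_le.mpr hy.1), h1, hC1, ?_⟩).not_gt hlt
    have he : Y ⊔ B1 = Y ⊔ B0 := by
      rw [hB1, ← sup_assoc, sup_eq_left]
      exact (zpowers_le.mpr hy).trans le_sup_left
    rwa [he]
  let R : Ready p S H Z :=
    { M := M, T := T, P := P, B := B, B0 := B0, M0 := M0,
      fml := {A | A ∈ fam (Mem E) T ∧ B ≤ normalizer (A : Set G)},
      y := y, hT := hT, hTS := hTS, hPT := hPT, hMP := hMP, hBP := hBP, hB0B := hB0B,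
      hMB := hMB, hMB0 := h0, hpow := hpow, hcen := hcen,
      hM0M := inf_le_left, hM0ne := hM0ne, hTM0 := le_inf hTM hTU,
      hmax := fun L h1 h2 h3 => le_inf h2 (hfus L h1 h2 h3).1,
      hfus := fun m hm => (hfus M0 (le_inf hTM hTU) inf_le_left hM0ne).2 m hm,
      hM0Y := hM0Y, hcore := hcore, hy := hy, hy0 := hy0, hyT := hyT, hym := hym,
      hAT := fun A h => h.1.2.1,
      hAne := by obtain ⟨A, h1, h2, h3⟩ := hA; exact ⟨A, ⟨h1, h3⟩, h2⟩,
      hAconj := by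
        rintro A ⟨h1, h2⟩ m hm hle
        have h4 := fam_cj m h1
        refine ⟨⟨h4.1, hle, fun C hC hCT => ?_⟩, ?_⟩
        · rw [card_cj]; exact h1.2.2 C hC hCT
        · rw [← cj_normalizer, ← mem_normalizer_iff_cj.mp (hMB hm)]
          exact cj_mono m h2
      hquad := by
        rintro A ⟨h1, h2⟩ a ha b hb
        refine hEB0 (h1.1.2 _ ?_ a ha)
        rw [commutatorElement_def]
        exact A.mul_mem ((mem_normalizer_iff.mp (h2 hb) a).mp ha) (A.inv_mem ha) }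
  exact R.concl hp hS hSH hZc

end CfsgLib.ZJFail
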