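import Cfsg.Agent.ZJFail.Local

/-!
Fusion when every element is a p-element modulo the centralizer of the p-core.
-/

set_option autoImplicit false

namespace CfsgLib.ZJFail

open Subgroup CfsgLib.ZJ CfsgLib.Functor
open scoped CfsgLib.Functor commutatorElement

variable {G : Type*} [Group G] [Finite G] {p : ℕ} [Fact p.Prime] {S : Sylow p G} {Z E : Subgroup G}

theorem Setting.fused (C : Setting S Z E) (hp : p ≠ 2) (hnot : ¬ Concl p (normalizer (Z : Set G)) Z)
    (A : Subgroup G) (g : G) (hA : A ≤ S) (hg : g ⋆ A ≤ S) : Fused (normalizer (Z : Set G)) A g := by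
  haveI := C.hE
  set H := normalizer (Z : Set G) with hH
  have hgE : ∀ f : G, f ⋆ E = E := fun f => mem_normalizer_iff_cj.mp (by
    rw [normalizer_eq_top (H := E)]; exact mem_top f)
  suffices hall : ∀ (A : Subgroup G) (g : G), A ≤ S → g ⋆ A ≤ S → E ≤ A → Fused H A g by
    refine (hall (A ⊔ E) g (sup_le hA C.hES) ?_ le_sup_right).mono le_sup_left
    rw [Subgroup.map_sup, hgE]
    exact sup_le hg C.hES
  let bad : Set (Subgroup G) := {R | R ≤ S ∧ E ≤ R ∧ IsExtremal p (S : Subgroup G) R ∧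
    (S : Subgroup G) ⊓ centralizer (R : Set G) ≤ R ∧ ∃ n ∈ normalizer (R : Set G), ¬ Fused H R n}
  by_cases hb : bad.Nonempty
  swap
  · exact fun A g hA hg hEA => fused_down S C.hNS C.hES 0 (fun R h1 h2 h3 h4 _ n hn =>
      by_contra fun hnn => hb ⟨R, h1, h2, h3, h4, n, hn, hnn⟩) A g hA hg hEA (Nat.zero_le _)
  exfalso
  obtain ⟨R, ⟨hRS, hER, hext, hCR, n, hn, hnn⟩, hmax⟩ := Set.exists_max_image bad
    (fun R => key E R * (Nat.card G + 1) +
      Nat.card ↥((S : Subgroup G) ⊓ normalizer (Jmod E R : Set G))) (Set.toFinite _) hb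
  have hbig : ∀ (A : Subgroup G) (g : G), A ≤ S → g ⋆ A ≤ S → E ≤ A → key E R < key E A →
      Fused H A g := fun A g hA hg hEA hlt => fused_down S C.hNS C.hES (key E R + 1)
    (fun R' h1 h2 h3 h4 h5 m hm => by_contra fun hmn =>
      (hmax R' ⟨h1, h2, h3, h4, m, hm, hmn⟩).not_gt
        (pair_lt (card_le_card_group _) (Nat.lt_of_succ_le h5))) A g hA hg hEA hlt
  set T := (S : Subgroup G) ⊓ normalizer (R : Set G) with hTdef
  have hT : IsSylowIn p T (normalizer (R : Set G)) := hext.sylowIn S.2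
  have hRT : R ≤ T := le_inf hRS le_normalizer
  have hTS : T ≤ (S : Subgroup G) := inf_le_left
  have hRne : R ≠ (S : Subgroup G) := fun he => hnn (Fused.of_mem (C.hNS (he ▸ hn)))
  have hRlt : R < T := lt_inf_normalizer S.2 (lt_of_le_of_ne hRS hRne)
  by_cases hJT : Jmod E T = Jmod E R
  swap
  · refine hnot (C.concl_local hp hbig hT hTS le_rfl hER hRT rfl rfl hJT ⟨n, hn, hnn⟩
      fun P' hP' _ hk => ?_)
    obtain rfl : R = P' := by_contra fun hne => (key_lt hER (lt_of_le_of_ne hP' hne)).not_ge hk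
    exact le_rfl
  -- the normalizer of `J`
  set J := Jmod E R with hJdef
  have hJR : J ≤ R := Jmod_le
  have hEJ : E ≤ J := by
    obtain ⟨A, hA⟩ := exists_member hER
    exact hA.1.1.trans (le_sSup hA)
  set M2 := normalizer (J : Set G) with hM2def
  have hTM2 : T ≤ M2 := by
    have h : T ≤ normalizer (T : Set G) := le_normalizer
    rw [hM2def, ← hJT]
    exact h.trans normalizer_le_Jmod
  set T2 := (S : Subgroup G) ⊓ M2 with hT2def
  have hT2S : T2 ≤ (S : Subgroup G) := inf_le_left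
  have hTT2 : T ≤ T2 := le_inf hTS hTM2
  have hT2 : IsSylowIn p T2 M2 := by
    obtain ⟨h, hhJ, hhN, hhext⟩ := exists_extremal S (hJR.trans hRS)
    have hhT : h ⋆ T ≤ (S : Subgroup G) := (cj_mono h hTT2).trans hhN
    have hhf : Fused H T h := hbig T h hTS hhT (hER.trans hRT) (key_lt hER hRlt)
    have hE' : E ≤ h ⋆ R := (hgE h).ge.trans (cj_mono h hER)
    have hT' : IsSylowIn p (h ⋆ T) (normalizer ((h ⋆ R : Subgroup G) : Set G)) := by
      simpa only [cj_normalizer] using hT.cj h
    have he : h ⋆ T = (S : Subgroup G) ⊓ normalizer ((h ⋆ R : Subgroup G) : Set G) :=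
      hT'.eq_of_le (S.2.to_le inf_le_left) inf_le_right (le_inf hhT hT'.le)
    have hbad : h ⋆ R ∈ bad := by
      refine ⟨(cj_mono h hRT).trans hhT, hE', ?_, ?_, h * n * h⁻¹, ?_, ?_⟩
      · show ¬ p ∣ _
        rw [← he]
        exact hT'.2.2
      · intro x hx
        have hxN : x ∈ normalizer ((h ⋆ R : Subgroup G) : Set G) := by
          refine mem_normalizer_iff_cj.mpr (eq_of_le_of_card_le' (cj_le_iff.mpr fun u hu => ?_) (card_cj x _).ge)
          rwa [← mem_centralizer_iff.mp hx.2 u hu, mul_inv_cancel_right]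
        have hxT : x ∈ h ⋆ T := he.ge ⟨hx.1, hxN⟩
        rw [mem_cj] at hxT ⊢
        refine hCR ⟨hTS hxT, ?_⟩
        have := conj_mem_cj (g := h⁻¹) hx.2
        rw [cj_centralizer, cj_inv_cj] at this
        simpa using this
      · rw [← cj_normalizer]; exact conj_mem_cj hn
      · intro hf
        apply hnn
        have h1 : Fused H R (h * n) := by simpa using (hhf.mono hRT).comp hf
        have h2 := (hhf.mono hRT).inv
        rw [show h ⋆ R = (h * n) ⋆ R by rw [← cj_cj, mem_normalizer_iff_cj.mp hn]] at h2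
        simpa using h1.comp h2
    have hle := hmax _ hbad
    simp only [key_cj hER, ← Jmod_cj, ← hJdef] at hle
    have hle' : h ⋆ T2 ≤ (S : Subgroup G) ⊓ normalizer ((h ⋆ J : Subgroup G) : Set G) :=
      le_inf hhN (by rw [← cj_normalizer]; exact cj_mono h inf_le_right)
    have heq : h ⋆ T2 = (S : Subgroup G) ⊓ normalizer ((h ⋆ J : Subgroup G) : Set G) :=
      eq_of_le_of_card_le' hle' (by rw [card_cj]; omega)
    have h3 := (hhext.sylowIn S.2).cj h⁻¹
    rwa [← heq, cj_inv_cj, cj_normalizer, cj_inv_cj] at h3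
  have hM2 : M2 ≠ ⊤ := by
    intro htop
    have hJE : J ≤ E := C.hcoreE J (normalizer_eq_top_iff.mp htop) (S.2.to_le (hJR.trans hRS))
    obtain ⟨A, hA⟩ := exists_member hER
    obtain ⟨z0, hz0, hz0E, hz0c⟩ := C.exists_central
    have hAE : A ≤ E := (le_sSup hA).trans hJE
    have hz0R : z0 ∈ normalizer (R : Set G) := by
      refine mem_normalizer_iff_cj.mpr (eq_of_le_of_card_le' (cj_le_iff.mpr fun u hu => ?_) (card_cj z0 _).ge)
      rw [show z0 * u * z0⁻¹ = ⁅z0, u⁆ * u by simp only [commutatorElement_def]; group]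
      exact mul_mem (hER (hz0c u (hRS hu))) hu
    obtain ⟨A', hA'⟩ := exists_member (hER.trans hRT)
    refine hz0E (hJE ?_)
    rw [← hJT]
    exact le_sSup hA' (mem_member hA' ⟨C.hZS hz0, hz0R⟩ fun a ha => hz0c a (hTS (hA'.2.1 ha)))
  have hT2J : Jmod E T2 ≠ J := by
    intro he
    have h1 : (S : Subgroup G) ⊓ normalizer (T2 : Set G) ≤ T2 := fun s hs => ⟨hs.1, by
      have := normalizer_le_Jmod (E := E) hs.2
      rwa [he] at this⟩
    have hT2S' : T2 = (S : Subgroup G) := by_contra fun hne =>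
      (lt_inf_normalizer S.2 (lt_of_le_of_ne hT2S hne)).not_ge h1
    refine hnn (C.hsub M2 hM2 (hT2S'.ge.trans inf_le_right) R n ?_ hRS
      (by rw [mem_normalizer_iff_cj.mp hn]; exact hRS))
    exact normalizer_le_Jmod hn
  -- climb to the kernel
  obtain ⟨P, ⟨hJP, hPR, hT2P, e, heP, heR, hen⟩, hPmax⟩ := Set.exists_max_image
    {P : Subgroup G | J ≤ P ∧ P ≤ R ∧ T2 ≤ normalizer (P : Set G) ∧
      ∃ e ∈ normalizer (P : Set G), e ∈ normalizer (R : Set G) ∧ ¬ Fused H R e}
    (fun P => Nat.card P) (Set.toFinite _)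
    ⟨J, le_rfl, hJR, inf_le_right, n, normalizer_le_Jmod hn, hn, hnn⟩
  have hEP : E ≤ P := hEJ.trans hJP
  have hPS : P ≤ (S : Subgroup G) := hPR.trans hRS
  have hPT2 : P ≤ T2 := hPR.trans (hRT.trans hTT2)
  have hfam : fam (Mem E) P = fam (Mem E) R := fam_eq_of_le hER hPR hJP
  have hJPe : Jmod E P = J := by rw [hJdef, Jmod, Jmod, hfam]
  have hdP : dmod E P = dmod E R := by
    obtain ⟨A, hA⟩ := exists_member hEP
    rw [dmod_eq hA, dmod_eq (hfam ▸ hA)]
  have hNPM2 : normalizer (P : Set G) ≤ M2 := by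
    have := normalizer_le_Jmod (E := E) (U := P)
    rwa [hJPe] at this
  have hT2N : IsSylowIn p T2 (normalizer (P : Set G)) := hT2.of_le hT2P hNPM2
  have hNT : ∀ P' : Subgroup G, P ≤ P' → P' ≤ T2 → key E P' ≤ key E R →
      (S : Subgroup G) ⊓ normalizer (P' : Set G) ≤ T2 := by
    intro P' hle _ hk s hs
    have hJ' : Jmod E P' = J := by_contra fun hne => (key_lt_of_Jmod_ne hEP hle hdP hJPe hne).not_ge hk
    exact ⟨hs.1, by
      have := normalizer_le_Jmod (E := E) hs.2
      rwa [hJ'] at this⟩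
  by_cases hunf : ∃ g ∈ normalizer (P : Set G), ¬ Fused H P g
  · exact hnot (C.concl_local hp hbig hT2N hT2S le_rfl hEP hPT2 hdP hJPe hT2J hunf hNT)
  push Not at hunf
  obtain ⟨K, hKN, hNK, hKp, hKmax⟩ := exists_modKer (p := p) (le_refl (normalizer (P : Set G)))
  have hTK : T2 ⊓ K ≤ P := by
    set MP := normalizer (P : Set G) ⊓ normalizer (R : Set G) with hMPdef
    have hTMP : T ≤ MP := le_inf (hTT2.trans hT2P) hT.le
    have hTMPs : IsSylowIn p T MP := hT.of_le hTMP inf_le_right
    have hPK : P ≤ K := hKmax P le_normalizer le_rfl fun x hx => by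
      obtain ⟨k, hk⟩ := S.2.to_le hPS ⟨x, hx⟩
      exact ⟨k, by
        have : x ^ p ^ k = 1 := by simpa using congrArg Subtype.val hk
        rw [this]; exact one_mem _⟩
    -- `R ∩ C(P) ≤ P`
    have hQR : T2 ⊓ centralizer (P : Set G) ≤ R := by
      by_contra hnle
      set Q := T2 ⊓ centralizer (P : Set G)
      have hRQ : R ≤ normalizer (Q : Set G) :=
        ((hRT.trans hTT2).trans (le_inf le_normalizer (hT2P.trans (centralizer_normalized le_rfl)))).trans
          normalizer_inf_le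
      have hlt : R < R ⊔ Q := lt_of_le_of_ne le_sup_left fun he => hnle (le_sup_right.trans he.ge)
      obtain ⟨x, hx, hxR⟩ := SetLike.exists_of_lt
        (lt_inf_normalizer (S.2.to_le (sup_le hRS (inf_le_left.trans hT2S))) hlt)
      obtain ⟨r, hr, c, hc, hrc⟩ := (Solvable.mem_sup_of_le_normalizer hRQ).mp hx.1
      have hcT : c ∈ T := ⟨hT2S hc.1, by
        rw [show c = r⁻¹ * x by rw [← hrc]; group]
        exact Subgroup.mul_mem _ (Subgroup.inv_mem _ (le_normalizer hr)) hx.2⟩
      obtain ⟨A, hA⟩ := exists_member (hER.trans hRT)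
      have hAJ : A ≤ J := (le_sSup hA).trans hJT.le
      exact hxR (hrc ▸ mul_mem hr (hJR (hAJ (mem_member hA hcT fun a ha => by
        rw [commutatorElement_eq_one_iff_mul_comm.mpr (mem_centralizer_iff.mp hc.2 a (hJP (hAJ ha))).symm]
        exact one_mem _))))
    have hRC : R ⊓ centralizer (P : Set G) ≤ P := by
      intro r hr
      obtain ⟨A, hA⟩ := exists_member hER
      have hAJ : A ≤ J := le_sSup hA
      exact hJP (hAJ (mem_member hA hr.1 fun a ha => by
        rw [commutatorElement_eq_one_iff_mul_comm.mpr (mem_centralizer_iff.mp hr.2 a (hJP (hAJ ha))).symm]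
        exact one_mem _))
    -- elements centralizing `P` are fused on `R`
    have hcf : ∀ c ∈ MP ⊓ centralizer (P : Set G), Fused H R c := by
      set Kc := MP ⊓ centralizer (P : Set G)
      have hKc : MP ≤ normalizer (Kc : Set G) :=
        (le_inf le_normalizer (centralizer_normalized inf_le_left)).trans normalizer_inf_le
      have hle : Kc ≤ (T ⊓ Kc) ⊔ (Kc ⊓ centralizer (R : Set G)) := by
        refine le_of_mod_in hTMPs inf_le_left hKc (centralizer_normalized inf_le_right) (fun c hc => ?_)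
          le_sup_left le_sup_right
        refine pow_mem_centralizer_of_step (P := P ⊓ centralizer (P : Set G))
          (S.2.to_le (inf_le_left.trans hPS)) (mem_centralizer_iff.mpr fun u hu =>
            mem_centralizer_iff.mp hc.2 u hu.1) fun u hu => ?_
        have hu' : c * u * c⁻¹ * u⁻¹ ∈ R :=
          mul_mem ((mem_normalizer_iff.mp hc.1.2 u).mp hu) (inv_mem hu)
        have huC : c * u * c⁻¹ * u⁻¹ ∈ centralizer (P : Set G) := by
          rw [show c * u * c⁻¹ * u⁻¹ = c * (u * c⁻¹ * u⁻¹) by group]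
          exact mul_mem hc.2 ((mem_normalizer_iff.mp
            (centralizer_normalized le_rfl ((hTT2.trans hT2P) (hRT hu))) _).mp (inv_mem hc.2))
        exact ⟨hRC ⟨hu', huC⟩, huC⟩
      intro c hc
      obtain ⟨t, ht, d, hd, rfl⟩ := (Solvable.mem_sup_of_le_normalizer
        (show T ⊓ Kc ≤ normalizer ((Kc ⊓ centralizer (R : Set G) : Subgroup G) : Set G) from
          (inf_le_left.trans hTMP).trans
            ((le_inf hKc (centralizer_normalized inf_le_right)).trans normalizer_inf_le))).mp (hle hc)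
      refine ⟨t, C.hSH (hTS ht.1), fun a ha => ?_⟩
      calc t * a * t⁻¹ = t * (a * (d * d⁻¹)) * t⁻¹ := by group
        _ = t * (d * a * d⁻¹) * t⁻¹ := by rw [← mul_assoc a, mem_centralizer_iff.mp hd.2 a ha]
        _ = _ := by group
    obtain ⟨c, hc, e', he', hce⟩ := exists_frattini (K := K ⊓ MP) (P := P) hTMPs inf_le_right
      ((le_inf (inf_le_left.trans hNK) le_normalizer).trans normalizer_inf_le) inf_le_left
      (fun x hx => hKp x hx.1) (show e ∈ MP from ⟨heP, heR⟩)
    have he'n : ¬ Fused H R e' := by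
      intro hf
      apply hen
      rw [hce]
      refine hf.comp ?_
      rw [mem_normalizer_iff_cj.mp he'.1.2]
      exact hcf c ⟨hc.1.2, hc.2⟩
    -- the kernel lies in `R`
    have h1 : T ⊓ (K ⊓ MP) ≤ R := by
      by_contra hnle
      refine he'n ((hbig (R ⊔ T ⊓ (K ⊓ MP)) e' (sup_le hRS (inf_le_left.trans hTS)) ?_
        (hER.trans le_sup_left) (key_lt hER (lt_of_le_of_ne le_sup_left fun he'' =>
          hnle (le_sup_right.trans he''.ge)))).mono le_sup_left)
      rw [Subgroup.map_sup, mem_normalizer_iff_cj.mp he'.1.2, mem_normalizer_iff_cj.mp he'.2]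
      exact sup_le hRS (inf_le_left.trans hTS)
    have h2 : T2 ⊓ K ≤ R := by
      by_contra hnle
      set Q := T2 ⊓ K
      have hRQ : R ≤ normalizer (Q : Set G) :=
        ((hRT.trans hTT2).trans (le_inf le_normalizer (hT2P.trans hNK))).trans normalizer_inf_le
      have hlt : R < R ⊔ Q := lt_of_le_of_ne le_sup_left fun he => hnle (le_sup_right.trans he.ge)
      obtain ⟨x, hx, hxR⟩ := SetLike.exists_of_lt
        (lt_inf_normalizer (S.2.to_le (sup_le hRS (inf_le_left.trans hT2S))) hlt)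
      obtain ⟨r, hr, q, hq, hrq⟩ := (Solvable.mem_sup_of_le_normalizer hRQ).mp hx.1
      have hqR : q ∈ normalizer (R : Set G) := by
        rw [show q = r⁻¹ * x by rw [← hrq]; group]
        exact mul_mem (inv_mem (le_normalizer hr)) hx.2
      exact hxR (hrq ▸ mul_mem hr (h1 ⟨⟨hT2S hq.1, hqR⟩, hq.2, hT2P hq.1, hqR⟩))
    have h3 : T ⊓ (K ⊓ MP) = T2 ⊓ K := le_antisymm
      (fun x hx => ⟨hTT2 hx.1, hx.2.1⟩)
      fun x hx => ⟨hRT (h2 hx), hx.2, hTMP (hRT (h2 hx))⟩
    by_contra hnle
    have hlt : P < T2 ⊓ K := lt_of_le_not_ge (le_inf hPT2 hPK) hnle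
    refine (hPmax (T2 ⊓ K) ⟨hJP.trans hlt.le, h2,
      (le_inf le_normalizer (hT2P.trans hNK)).trans normalizer_inf_le, e', ?_, he'.1.2, he'n⟩).not_gt
      (Solvable.card_lt_of_lt hlt)
    have := he'.2
    rwa [h3] at this
  refine hen (Fused.of_mem (C.fused_of_normalizes hT2S hPT2 hT2P le_rfl
    (fun g hg => mem_normalizer_inf_of_fused hg (hunf g hg))
    (fun s hs => ⟨hs.1, hNPM2 hs.2⟩) hKmax hTK heP))

end CfsgLib.ZJFail
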