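import Cfsg.Agent.ZJFail.Prep

/-!
The choice of the section of `P`.
-/

set_option autoImplicit false

namespace CfsgLib.ZJFail

open Subgroup CfsgLib.ZJ CfsgLib.Functor
open scoped CfsgLib.Functor commutatorElement

variable {G : Type*} [Group G] [Finite G] {p : ℕ} [Fact p.Prime]

omit [Finite G] [Fact p.Prime] in
theorem normalizer_sup_le {X Y : Subgroup G} :
    normalizer (X : Set G) ⊓ normalizer (Y : Set G) ≤ normalizer ((X ⊔ Y : Subgroup G) : Set G) := by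
  intro g hg
  rw [mem_normalizer_iff_cj, Subgroup.map_sup, mem_normalizer_iff_cj.mp hg.1, mem_normalizer_iff_cj.mp hg.2]

omit [Finite G] [Fact p.Prime] in
theorem normalizer_inf_le {X Y : Subgroup G} :
    normalizer (X : Set G) ⊓ normalizer (Y : Set G) ≤ normalizer ((X ⊓ Y : Subgroup G) : Set G) :=
  fun _ hg => mem_normalizer_iff.mpr fun u =>
    and_congr (mem_normalizer_iff.mp hg.1 u) (mem_normalizer_iff.mp hg.2 u)

/-- A minimal normalized subgroup meeting `Z` in a subgroup that is not normalized modulo `E`. -/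
theorem exists_minimal {Z E M W : Subgroup G} (hEW : E ≤ W) (hMW : M ≤ normalizer (W : Set G))
    (hn : ¬ M ≤ normalizer (((W ⊓ Z) ⊔ E : Subgroup G) : Set G)) :
    ∃ B : Subgroup G, E ≤ B ∧ B ≤ W ∧ M ≤ normalizer (B : Set G) ∧
      ¬ M ≤ normalizer (((B ⊓ Z) ⊔ E : Subgroup G) : Set G) ∧
      ∀ B', E ≤ B' → B' ≤ B → B' ≠ B → M ≤ normalizer (B' : Set G) →
        M ≤ normalizer (((B' ⊓ Z) ⊔ E : Subgroup G) : Set G) := by
  obtain ⟨B, ⟨h1, h2, h3, h4⟩, hmin⟩ := Set.exists_min_image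
    {B : Subgroup G | E ≤ B ∧ B ≤ W ∧ M ≤ normalizer (B : Set G) ∧
      ¬ M ≤ normalizer (((B ⊓ Z) ⊔ E : Subgroup G) : Set G)} (fun B => Nat.card B) (Set.toFinite _)
    ⟨W, hEW, le_rfl, hMW, hn⟩
  refine ⟨B, h1, h2, h3, h4, fun B' e1 e2 e3 e4 => by_contra fun e5 => ?_⟩
  exact (hmin B' ⟨e1, e2.trans h2, e4, e5⟩).not_gt (Solvable.card_lt_of_lt (lt_of_le_of_ne e2 e3))

/-- The conclusion from a minimal subgroup. -/
theorem concl_of_minimal (hp : p ≠ 2) {S H Z E M T P B : Subgroup G} (hS : IsPGroup p S) (hSH : S ≤ H)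
    (hSZ : S ≤ normalizer (Z : Set G)) (hZc : ∀ u ∈ Z, ∀ v ∈ Z, u * v = v * u)
    (hE : E.Normal) (hT : IsSylowIn p T M) (hTS : T ≤ S) (hPT : P ≤ T)
    (hMP : M ≤ normalizer (P : Set G)) (hU : ¬ M ≤ normalizer ((Z ⊓ P : Subgroup G) : Set G))
    (hfus : ∀ L : Subgroup G, T ≤ L → L ≤ M → L ≠ M →
      L ≤ normalizer ((Z ⊓ P : Subgroup G) : Set G) ∧ ∀ l ∈ L, Fused H P l)
    (hcore : ∀ N : Subgroup G, N ≤ M → M ≤ normalizer (N : Set G) → IsPGroup p N → N ≤ P)
    (hBP : B ≤ P) (hMB : M ≤ normalizer (B : Set G)) (hEB : E ≤ B)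
    (hn : ¬ M ≤ normalizer (((B ⊓ Z) ⊔ E : Subgroup G) : Set G))
    (hmin : ∀ B', E ≤ B' → B' ≤ B → B' ≠ B → M ≤ normalizer (B' : Set G) →
        M ≤ normalizer (((B' ⊓ Z) ⊔ E : Subgroup G) : Set G))
    (hA : ∃ A ∈ fam (Mem E) T, ¬ A ≤ P ∧ B ≤ normalizer (A : Set G)) : Concl p H Z := by
  have hTM : T ≤ M := hT.le
  have hEn : M ≤ normalizer (E : Set G) := by rw [normalizer_eq_top (H := E)]; exact le_top
  have hb0 : M ≤ normalizer (base0 p E B P : Set G) := base0_normalized hEn hMB hMP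
  have hle : base0 p E B P ≤ B := base0_le hEB ((hPT.trans hTM).trans hMB)
  have hTY : T ≤ normalizer ((B ⊓ Z : Subgroup G) : Set G) :=
    (le_inf (hTM.trans hMB) (hTS.trans hSZ)).trans normalizer_inf_le
  have hnot : ¬ M ≤ normalizer (((B ⊓ Z) ⊔ base0 p E B P : Subgroup G) : Set G) := by
    intro h
    by_cases he : (B ⊓ Z) ⊔ base0 p E B P = B
    · have hB : B ≤ (B ⊓ Z) ⊔ E := le_of_le_sup_base0 (hT.isPGroup.to_le hPT) hBP
        ((hPT.trans hTM).trans hMB)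
        ((le_inf (hPT.trans hTY) ((hPT.trans hTM).trans hEn)).trans normalizer_sup_le)
        (sup_le inf_le_left hEB) le_sup_right
        (he.ge.trans (sup_le_sup_right le_sup_left _))
      rw [le_antisymm (sup_le inf_le_left hEB) hB] at hn
      exact hn hMB
    · have h' := hmin ((B ⊓ Z) ⊔ base0 p E B P) ((le_sup_left.trans le_sup_left).trans le_sup_right)
        (sup_le inf_le_left hle) he h
      rw [show ((B ⊓ Z) ⊔ base0 p E B P) ⊓ Z = B ⊓ Z from
        le_antisymm (inf_le_inf_right Z (sup_le inf_le_left hle)) (le_inf le_sup_left inf_le_right)] at h'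
      exact hn h'
  refine concl_of_section hp hS hSH hSZ hZc hE hT hTS hPT hMP hU hfus hcore hBP hMB hEB
    (fun h0 => ?_) (fun h => absurd h hnot) hA
  set L := M ⊓ normalizer (((B ⊓ Z) ⊔ base0 p E B P : Subgroup G) : Set G) with hL
  refine le_trans ?_ (hfus L (le_inf hTM ((le_inf hTY (hTM.trans hb0)).trans normalizer_sup_le))
    inf_le_left fun he => hnot fun m hm => (he.ge hm).2).1
  rintro c ⟨hc, hc'⟩
  refine ⟨hc, mem_normalizer_iff_cj.mpr (eq_of_le_of_card_le' ?_ (card_cj c _).ge)⟩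
  rw [Subgroup.map_sup]
  refine sup_le (cj_le_iff.mpr fun u hu => ?_) ((mem_normalizer_iff_cj.mp (hb0 hc)).le.trans le_sup_right)
  rw [show c * u * c⁻¹ = ⁅c, u⁆ * u by simp only [commutatorElement_def]; group]
  exact mul_mem (mem_sup_right (hc' u hu.1)) (mem_sup_left hu)

/-- The case `E = ⊥`, with `Z` the centre of the Thompson subgroup of `T`. -/
theorem concl_bot (hp : p ≠ 2) {S H Z M T P : Subgroup G} (hS : IsPGroup p S) (hSH : S ≤ H)
    (hSZ : S ≤ normalizer (Z : Set G)) (hZc : ∀ u ∈ Z, ∀ v ∈ Z, u * v = v * u)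
    (hT : IsSylowIn p T M) (hTS : T ≤ S) (hPT : P ≤ T) (hZT : Z = Wmod ⊥ T)
    (hMP : M ≤ normalizer (P : Set G)) (hU : ¬ M ≤ normalizer ((Z ⊓ P : Subgroup G) : Set G))
    (hfus : ∀ L : Subgroup G, T ≤ L → L ≤ M → L ≠ M →
      L ≤ normalizer ((Z ⊓ P : Subgroup G) : Set G) ∧ ∀ l ∈ L, Fused H P l)
    (hcore : ∀ N : Subgroup G, N ≤ M → M ≤ normalizer (N : Set G) → IsPGroup p N → N ≤ P)
    (hJ : ¬ Jmod ⊥ T ≤ P) : Concl p H Z := by
  obtain ⟨B, -, hBP, hMB, hn, hmin⟩ := exists_minimal (Z := Z) (E := ⊥) (M := M) (W := P) bot_le hMP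
    (by rw [sup_bot_eq, inf_comm]; exact hU)
  have hmin' : ∀ B', B' ≤ B → B' ≠ B → M ≤ normalizer (B' : Set G) →
      M ≤ normalizer ((B' ⊓ Z : Subgroup G) : Set G) := fun B' h1 h2 h3 => by
    have := hmin B' bot_le h1 h2 h3
    rwa [sup_bot_eq] at this
  rw [sup_bot_eq] at hn
  have heq : ∀ B', B' ≤ B → M ≤ normalizer (B' : Set G) → B ⊓ Z ≤ B' → B' = B := by
    intro B' h1 h2 h3
    by_contra hne
    have h := hmin' B' h1 hne h2
    rw [le_antisymm (inf_le_inf_right Z h1) (le_inf h3 inf_le_right)] at h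
    exact hn h
  have hBp : IsPGroup p B := hT.isPGroup.to_le (hBP.trans hPT)
  have hB0 : B ≠ ⊥ := by
    intro h
    apply hn
    rw [h, bot_inf_eq, normalizer_eq_top (H := (⊥ : Subgroup G))]
    exact le_top
  have hD : M ≤ normalizer ((⁅B, B⁆ ⊓ Z : Subgroup G) : Set G) := by
    refine hmin' _ (commutator_le_self B) ?_ fun m hm => ?_
    · haveI := hBp.isNilpotent
      haveI : Nontrivial B := (nontrivial_iff_ne_bot B).2 hB0
      have h := Group.IsSolvable.commutator_lt_top_of_nontrivial B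
      rw [← map_subtype_lt_map_subtype, map_subtype_commutator] at h
      rw [← MonoidHom.range_eq_map, range_subtype] at h
      exact h.ne
    · rw [mem_normalizer_iff_cj, map_commutator, mem_normalizer_iff_cj.mp (hMB hm)]
  have hBM : B ≤ M := (hBP.trans hPT).trans hT.le
  -- `[B, B] ≤ Z`
  let C1 : Subgroup G :=
    { carrier := {b | b ∈ B ∧ ∀ u ∈ B, ⁅b, u⁆ ∈ ⁅B, B⁆ ⊓ Z}
      one_mem' := ⟨one_mem _, fun u _ => by rw [commutatorElement_one_left]; exact one_mem _⟩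
      mul_mem' := by
        rintro a b ⟨ha, ha'⟩ ⟨hb, hb'⟩
        refine ⟨mul_mem ha hb, fun u hu => ?_⟩
        rw [show ⁅a * b, u⁆ = a * ⁅b, u⁆ * a⁻¹ * ⁅a, u⁆ by simp only [commutatorElement_def]; group]
        exact mul_mem ((mem_normalizer_iff.mp (hD (hBM ha)) _).mp (hb' u hu)) (ha' u hu)
      inv_mem' := by
        rintro a ⟨ha, ha'⟩
        refine ⟨inv_mem ha, fun u hu => ?_⟩
        rw [show ⁅a⁻¹, u⁆ = (a⁻¹ * ⁅a, u⁆ * a⁻¹⁻¹)⁻¹ by simp only [commutatorElement_def]; group]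
        exact inv_mem ((mem_normalizer_iff.mp (hD (hBM (inv_mem ha))) _).mp (ha' u hu)) }
  have hB'Z : ⁅B, B⁆ ≤ Z := by
    have h1 : C1 = B := by
      refine heq C1 (fun b hb => hb.1) (fun m hm => ?_) fun y hy => ⟨hy.1, fun u hu => ?_⟩
      · refine mem_normalizer_iff_cj.mpr (eq_of_le_of_card_le' (cj_le_iff.mpr ?_) (card_cj m _).ge)
        rintro b ⟨hb, hb'⟩
        refine ⟨(mem_normalizer_iff.mp (hMB hm) b).mp hb, fun u hu => ?_⟩
        rw [show ⁅m * b * m⁻¹, u⁆ = m * ⁅b, m⁻¹ * u * m⁻¹⁻¹⁆ * m⁻¹ by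
          simp only [commutatorElement_def]; group]
        exact (mem_normalizer_iff.mp (hD hm) _).mp
          (hb' _ ((mem_normalizer_iff.mp (hMB (inv_mem hm)) u).mp hu))
      · refine ⟨commutator_mem_commutator hy.1 hu, ?_⟩
        rw [commutatorElement_def, show y * u * y⁻¹ * u⁻¹ = y * (u * y⁻¹ * u⁻¹) by group]
        exact Z.mul_mem hy.2 ((mem_normalizer_iff.mp (hSZ (hTS (hPT (hBP hu)))) _).mp (Z.inv_mem hy.2))
    exact commutator_le.mpr fun b hb u hu => ((h1.ge hb).2 u hu).2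
  refine concl_of_minimal hp hS hSH hSZ hZc inferInstance hT hTS hPT hMP hU hfus hcore hBP hMB bot_le
    (by rwa [sup_bot_eq]) hmin ?_
  refine exists_normalized_member hp hT.isPGroup bot_le (hBP.trans hPT) (hT.le.trans hMB)
    (fun A hA a ha b hb => (hZT.le.trans (sInf_le hA)) (hB'Z (commutator_mem_commutator ha hb))) ?_
    fun A hA hAP => ?_
  · by_contra hc
    push Not at hc
    exact hJ (sSup_le hc)
  · have hfamP : fam (Mem ⊥) P ⊆ fam (Mem ⊥) T := fun C hC =>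
      ⟨hC.1, hC.2.1.trans hPT, fun D hD hDT => (hA.2.2 D hD hDT).trans (hC.2.2 A hA.1 hAP)⟩
    have hW : B ⊓ Wmod ⊥ P = B := by
      refine heq _ inf_le_left ((le_inf hMB (hMP.trans normalizer_le_Wmod)).trans normalizer_inf_le)
        (le_inf inf_le_left ?_)
      exact inf_le_right.trans (hZT.le.trans (sInf_le_sInf hfamP))
    exact (inf_eq_left.mp hW).trans (sInf_le ⟨hA.1, hAP, fun C hC hCP => hA.2.2 C hC (hCP.trans hPT)⟩)

end CfsgLib.ZJFail
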